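import Groth.Agent.Lib.DivDesc12.Desc
import Mathlib.AlgebraicGeometry.Fiber

/-!
# Local rings of scheme-theoretic fibres
-/

universe u

set_option linter.style.haveILetI false
set_option backward.isDefEq.respectTransparency false

open CategoryTheory Limits AlgebraicGeometry TopologicalSpace

namespace Groth.Agent.DivDesc12

variable {X Y : Scheme.{u}} (f : X ⟶ Y)

theorem exists_lift_fiber (x : X) {y : Y} (hx : f x = y) (h : f x ⤳ y) :
    ∃ u : Spec (CommRingCat.of (X.presheaf.stalk x ⧸
        (IsLocalRing.maximalIdeal (Y.presheaf.stalk y)).map (σ f x h))) ⟶ f.fiber y,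
      u ≫ f.fiberι y =
        Spec.map (CommRingCat.ofHom (Ideal.Quotient.mk _)) ≫ X.fromSpecStalk x := by
  subst hx
  let I := (IsLocalRing.maximalIdeal (Y.presheaf.stalk (f x))).map (σ f x h)
  let g : Y.presheaf.stalk (f x) →+* X.presheaf.stalk x ⧸ I :=
    (Ideal.Quotient.mk I).comp (f.stalkMap x).hom
  have hker : RingHom.ker (Y.residue (f x)).hom ≤ RingHom.ker g := by
    intro r hr
    have hr' : r ∈ IsLocalRing.maximalIdeal (Y.presheaf.stalk (f x)) := by
      erw [← IsLocalRing.ker_residue (R := Y.presheaf.stalk (f x))]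
      exact hr
    refine Ideal.Quotient.eq_zero_iff_mem.2 ?_
    have := Ideal.mem_map_of_mem (σ f x h) hr'
    rwa [show σ f x h r = f.stalkMap x r from congrArg (f.stalkMap x) (sp_self h r)] at this
  let ψ := (Y.residue (f x)).hom.liftOfSurjective (Y.residue_surjective (f x)) ⟨g, hker⟩
  have hψ : Y.residue (f x) ≫ CommRingCat.ofHom ψ =
      f.stalkMap x ≫ CommRingCat.ofHom (Ideal.Quotient.mk I) := by
    ext r
    exact (Y.residue (f x)).hom.liftOfSurjective_comp_apply (Y.residue_surjective (f x)) ⟨g, hker⟩ r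
  refine ⟨pullback.lift (Spec.map (CommRingCat.ofHom (Ideal.Quotient.mk I)) ≫ X.fromSpecStalk x)
    (Spec.map (CommRingCat.ofHom ψ)) ?_, pullback.lift_fst _ _ _⟩
  rw [Category.assoc, ← Scheme.SpecMap_stalkMap_fromSpecStalk, ← Spec.map_comp_assoc, ← hψ,
    Scheme.fromSpecResidueField, Spec.map_comp_assoc]

/-- If a point of `Spec Q` lifts along `i`, the kernel of the stalk map of `i` dies in `Q`. -/
theorem map_eq_zero_of_lift {W : Scheme.{u}} (i : W ⟶ X) (hi : Function.Injective i) (z : W)
    {Q : CommRingCat.{u}} [IsLocalRing Q] (φ : X.presheaf.stalk (i z) ⟶ Q) [IsLocalHom φ.hom]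
    (u : Spec Q ⟶ W) (hu : u ≫ i = Spec.map φ ≫ X.fromSpecStalk (i z))
    (b : X.presheaf.stalk (i z)) (hb : i.stalkMap z b = 0) : φ b = 0 := by
  obtain ⟨U, hxU, s, rfl⟩ := X.presheaf.exists_germ_eq b
  have hpt : u (IsLocalRing.closedPoint Q) = z := by
    refine hi ?_
    rw [← Scheme.Hom.comp_apply, hu, Scheme.Hom.comp_apply]
    erw [Spec_closedPoint, Scheme.fromSpecStalk_closedPoint]
  have key : ∀ (z' : W), z' = z → ∀ hz' : i z' ∈ U, i.stalkMap z' (X.presheaf.germ U _ hz' s) = 0 := by
    rintro _ rfl hz'; exact hb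
  have hU : (u ≫ i) (IsLocalRing.closedPoint Q) ∈ U := by
    rw [Scheme.Hom.comp_apply, hpt]; exact hxU
  have e' : Scheme.stalkClosedPointTo (u ≫ i) (X.presheaf.germ U _ hU s) = 0 := by
    rw [Scheme.stalkClosedPointTo_comp]
    exact (congrArg (Scheme.stalkClosedPointTo u) (key _ hpt _)).trans (map_zero _)
  have hgen : ∀ (v : Spec Q ⟶ X), v = u ≫ i → ∀ hv : v (IsLocalRing.closedPoint Q) ∈ U,
      Scheme.stalkClosedPointTo v (X.presheaf.germ U _ hv s) = 0 := by
    rintro _ rfl hv; exact e'
  have e := congr($(Scheme.germ_stalkClosedPointTo_Spec_fromSpecStalk φ U (x := i z) (hu ▸ hU)) s)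
  exact e.symm.trans (hgen _ hu.symm _)

theorem stalkMap_fiberι_eq_zero_iff (x : X) {y : Y} (hx : f x = y) (h : f x ⤳ y)
    (z : f.fiber y) (hz : f.fiberι y z = x) (b : X.presheaf.stalk (f.fiberι y z)) :
    (f.fiberι y).stalkMap z b = 0 ↔
      b ∈ (IsLocalRing.maximalIdeal (Y.presheaf.stalk y)).map (σ f (f.fiberι y z) (hz.symm ▸ h)) := by
  subst hz
  constructor
  · intro hb
    obtain ⟨u, hu⟩ := exists_lift_fiber f (f.fiberι y z) hx h
    let I := (IsLocalRing.maximalIdeal (Y.presheaf.stalk y)).map (σ f (f.fiberι y z) h)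
    haveI hne : Nontrivial (X.presheaf.stalk (f.fiberι y z) ⧸ I) := by
      haveI := isLocalHom_σ f hx h
      rw [Ideal.Quotient.nontrivial_iff]
      exact ne_top_of_le_ne_top (IsLocalRing.maximalIdeal.isMaximal _).ne_top
        (((IsLocalRing.local_hom_TFAE (σ f (f.fiberι y z) h)).out 0 2
          (a := IsLocalHom (σ f (f.fiberι y z) h))).1 inferInstance)
    let Q := CommRingCat.of (X.presheaf.stalk (f.fiberι y z) ⧸ I)
    haveI : IsLocalRing Q := IsLocalRing.of_surjective' (Ideal.Quotient.mk I) Ideal.Quotient.mk_surjective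
    let φ : X.presheaf.stalk (f.fiberι y z) ⟶ Q := CommRingCat.ofHom (Ideal.Quotient.mk I)
    haveI : IsLocalHom φ.hom := IsLocalHom.of_surjective _ Ideal.Quotient.mk_surjective
    exact Ideal.Quotient.eq_zero_iff_mem.1
      (map_eq_zero_of_lift (f.fiberι y) (f.fiberι y).isEmbedding.injective z φ u hu b hb)
  · intro hb
    let q : X.presheaf.stalk (f.fiberι y z) →+* (f.fiber y).presheaf.stalk z := ((f.fiberι y).stalkMap z).hom
    suffices Ideal.map (q.comp (σ f (f.fiberι y z) h)) (IsLocalRing.maximalIdeal (Y.presheaf.stalk y)) ≤ ⊥ by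
      have h1 := Ideal.mem_map_of_mem q hb
      rw [Ideal.map_map] at h1
      exact (Submodule.mem_bot _).1 (this h1)
    rw [Ideal.map_le_iff_le_comap]
    intro r hr
    rw [Ideal.mem_comap, Submodule.mem_bot]
    let k := f.fiberToSpecResidueField y
    let w := k z
    have hw : Y.fromSpecResidueField y w = y := Scheme.fromSpecResidueField_apply _ _
    have hfld : IsField ((Spec (Y.residueField y)).presheaf.stalk w) := by
      rw [Subsingleton.elim (α := PrimeSpectrum _) w (IsLocalRing.closedPoint (Y.residueField y))]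
      exact MulEquiv.isField (Field.toIsField (Y.residueField y))
        (stalkClosedPointIso (Y.residueField y)).commRingCatIsoToRingEquiv.toMulEquiv
    have hs : Y.fromSpecResidueField y w ⤳ y := specializes_of_eq hw
    have h0 : (Y.fromSpecResidueField y).stalkMap w (sp hs r) = 0 := by
      by_contra hn
      obtain ⟨c, hc⟩ := hfld.mul_inv_cancel hn
      have h1 : IsUnit (σ (Y.fromSpecResidueField y) w hs r) := IsUnit.of_mul_eq_one c hc
      haveI := isLocalHom_σ (Y.fromSpecResidueField y) hw hs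
      exact hr (isUnit_of_map_unit _ _ h1)
    have key : ∀ (p : f.fiber y ⟶ Y), p = k ≫ Y.fromSpecResidueField y → ∀ hp : p z ⤳ y,
        p.stalkMap z (sp hp r) = 0 := by
      rintro _ rfl hp
      rw [Scheme.Hom.stalkMap_comp]
      show k.stalkMap z ((Y.fromSpecResidueField y).stalkMap (k z) (sp hp r)) = 0
      exact (congrArg _ h0).trans (map_zero _)
    have := key _ (f.fiber_fac y) h
    rw [Scheme.Hom.stalkMap_comp] at this
    exact this

theorem isAssociated_maximalIdeal_iff {R S : Type u} [CommRing R] [CommRing S] [IsNoetherianRing S]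
    [IsLocalRing S] :
    IsAssociatedPrime (IsLocalRing.maximalIdeal S) S ↔
      ∃ e : S, e ≠ 0 ∧ ∀ c ∈ IsLocalRing.maximalIdeal S, c * e = 0 := by
  rw [isAssociatedPrime_iff]
  constructor
  · rintro ⟨hp, e, he⟩
    refine ⟨e, fun e0 => hp.ne_top ((Ideal.eq_top_iff_one _).2 ?_), fun c hc => ?_⟩
    · rw [he, Submodule.mem_colon_singleton, e0, smul_zero]; exact Submodule.zero_mem _
    · rw [he, Submodule.mem_colon_singleton, Submodule.mem_bot] at hc; exact hc
  · rintro ⟨e, he, hc⟩
    refine ⟨inferInstance, e, le_antisymm (fun c hcm => ?_) (IsLocalRing.le_maximalIdeal ?_)⟩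
    · rw [Submodule.mem_colon_singleton, Submodule.mem_bot]; exact hc c hcm
    · intro ht
      have := (Ideal.eq_top_iff_one _).1 ht
      rw [Submodule.mem_colon_singleton, Submodule.mem_bot, one_smul] at this
      exact he this

end Groth.Agent.DivDesc12
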