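import Mathlib.AlgebraicGeometry.AffineScheme
import Mathlib.AlgebraicGeometry.IdealSheaf.Basic
import Mathlib.AlgebraicGeometry.Morphisms.Flat
import Mathlib.AlgebraicGeometry.Noetherian
import Mathlib.RingTheory.Ideal.Height
import Mathlib.RingTheory.Ideal.KrullsHeightTheorem
import Mathlib.RingTheory.Localization.LocalizationLocalization
import Mathlib.RingTheory.Localization.Ideal

/-!
# Stalks and specializations; stalks of ideal sheaves
-/

universe u

set_option linter.style.haveILetI false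

open CategoryTheory Limits AlgebraicGeometry TopologicalSpace

namespace Groth.Agent.DivDesc12

variable {X : Scheme.{u}}

noncomputable abbrev sp {x' x : X} (h : x' ⤳ x) : X.presheaf.stalk x →+* X.presheaf.stalk x' :=
  (X.presheaf.stalkSpecializes h).hom

/-- The prime of `O_x` belonging to a generalization of `x`. -/
noncomputable abbrev primeAt {x' x : X} (h : x' ⤳ x) : Ideal (X.presheaf.stalk x) :=
  (IsLocalRing.maximalIdeal (X.presheaf.stalk x')).comap (sp h)

theorem mem_primeAt {x' x : X} (h : x' ⤳ x) {a : X.presheaf.stalk x} :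
    a ∈ primeAt h ↔ ¬ IsUnit (sp h a) := Iff.rfl

theorem sp_comp {x'' x' x : X} (h : x'' ⤳ x') (h' : x' ⤳ x) (a : X.presheaf.stalk x) :
    sp h (sp h' a) = sp (h.trans h') a := by
  simp only [← CommRingCat.comp_apply, TopCat.Presheaf.stalkSpecializes_comp]

theorem sp_self {x : X} (h : x ⤳ x) (a : X.presheaf.stalk x) : sp h a = a := by
  simp [sp, TopCat.Presheaf.stalkSpecializes_refl]

theorem sp_germ {x' x : X} (h : x' ⤳ x) (U : X.Opens) (hx : x ∈ U) (a : Γ(X, U)) :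
    sp h (X.presheaf.germ U x hx a) = X.presheaf.germ U x' (h.mem_open U.2 hx) a :=
  TopCat.Presheaf.germ_stalkSpecializes_apply X.presheaf hx h a

variable {U : X.Opens} (hU : IsAffineOpen U)

include hU in
theorem primeAt_comap_germ {x' x : X} (h : x' ⤳ x) (hx : x ∈ U) :
    (primeAt h).comap (X.presheaf.germ U x hx).hom =
      (hU.primeIdealOf ⟨x', h.mem_open U.2 hx⟩).asIdeal := by
  letI := X.presheaf.algebra_section_stalk (⟨x', h.mem_open U.2 hx⟩ : U)
  haveI := hU.isLocalization_stalk ⟨x', h.mem_open U.2 hx⟩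
  rw [← IsLocalization.AtPrime.under_maximalIdeal (X.presheaf.stalk x')
    (hU.primeIdealOf ⟨x', h.mem_open U.2 hx⟩).asIdeal]
  ext a
  simp only [Ideal.mem_comap, primeAt]
  rw [sp_germ]
  rfl

include hU in
theorem specializes_iff {y z : X} (hy : y ∈ U) (hz : z ∈ U) :
    y ⤳ z ↔ (hU.primeIdealOf ⟨y, hy⟩).asIdeal ≤ (hU.primeIdealOf ⟨z, hz⟩).asIdeal := by
  have key : hU.fromSpec (hU.primeIdealOf ⟨y, hy⟩) ⤳ hU.fromSpec (hU.primeIdealOf ⟨z, hz⟩) ↔
      (hU.primeIdealOf ⟨y, hy⟩).asIdeal ≤ (hU.primeIdealOf ⟨z, hz⟩).asIdeal := by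
    exact hU.fromSpec.isOpenEmbedding.isInducing.specializes_iff.trans
      (PrimeSpectrum.le_iff_specializes _ _).symm
  rwa [hU.fromSpec_primeIdealOf, hU.fromSpec_primeIdealOf] at key

theorem exists_affine (x : X) : ∃ U : X.Opens, IsAffineOpen U ∧ x ∈ U := by
  obtain ⟨U, hU, hx, -⟩ := exists_isAffineOpen_mem_and_subset (X := X) (x := x) (U := ⊤) trivial
  exact ⟨U, hU, hx⟩

theorem specializes_of_primeAt_le {x x' x'' : X} (h' : x' ⤳ x) (h'' : x'' ⤳ x)
    (hle : primeAt h'' ≤ primeAt h') : x'' ⤳ x' := by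
  obtain ⟨U, hU, hx⟩ := exists_affine x
  rw [specializes_iff hU (h''.mem_open U.2 hx) (h'.mem_open U.2 hx),
    ← primeAt_comap_germ hU h'' hx, ← primeAt_comap_germ hU h' hx]
  exact Ideal.comap_mono hle

theorem eq_of_primeAt_eq {x x' x'' : X} (h' : x' ⤳ x) (h'' : x'' ⤳ x)
    (he : primeAt h'' = primeAt h') : x'' = x' :=
  ((specializes_of_primeAt_le h' h'' he.le).antisymm (specializes_of_primeAt_le h'' h' he.ge)).eq

theorem primeAt_self (x : X) (h : x ⤳ x) : primeAt h = IsLocalRing.maximalIdeal (X.presheaf.stalk x) := by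
  ext a; simp only [primeAt, Ideal.mem_comap, sp_self]

theorem exists_primeAt_eq (x : X) (q : Ideal (X.presheaf.stalk x)) [hq : q.IsPrime] :
    ∃ (x' : X) (h : x' ⤳ x), primeAt h = q := by
  obtain ⟨U, hU, hx⟩ := exists_affine x
  let Q : PrimeSpectrum Γ(X, U) := ⟨q.comap (X.presheaf.germ U x hx).hom, Ideal.IsPrime.comap _⟩
  have hm : hU.fromSpec Q ∈ U := hU.range_fromSpec.le ⟨_, rfl⟩
  have hQ : hU.primeIdealOf ⟨_, hm⟩ = Q :=
    hU.fromSpec.isOpenEmbedding.injective (hU.fromSpec_primeIdealOf _)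
  letI := X.presheaf.algebra_section_stalk (⟨x, hx⟩ : U)
  haveI := hU.isLocalization_stalk ⟨x, hx⟩
  have hle : Q.asIdeal ≤ (hU.primeIdealOf ⟨x, hx⟩).asIdeal := by
    intro a ha
    by_contra hn
    exact hq.ne_top (q.eq_top_of_isUnit_mem ha
      (IsLocalization.map_units (X.presheaf.stalk x) (⟨a, hn⟩ : (hU.primeIdealOf ⟨x, hx⟩).asIdeal.primeCompl)))
  have h : hU.fromSpec Q ⤳ x := by
    rw [specializes_iff hU hm hx, hQ]; exact hle
  refine ⟨_, h, ?_⟩
  rw [← IsLocalization.map_under (hU.primeIdealOf ⟨x, hx⟩).asIdeal.primeCompl (X.presheaf.stalk x) (primeAt h),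
    ← IsLocalization.map_under (hU.primeIdealOf ⟨x, hx⟩).asIdeal.primeCompl (X.presheaf.stalk x) q]
  congr 1
  have := primeAt_comap_germ hU h hx
  rw [show (hU.primeIdealOf ⟨hU.fromSpec Q, h.mem_open U.2 hx⟩) = Q from hQ] at this
  exact this

theorem exists_mul_mem {x' x : X} (h : x' ⤳ x) (P : Ideal (X.presheaf.stalk x))
    (b : X.presheaf.stalk x) (hb : sp h b ∈ P.map (sp h)) :
    ∃ z, IsUnit (sp h z) ∧ z * b ∈ P := by
  obtain ⟨U, hU, hx⟩ := exists_affine x
  have hx' := h.mem_open U.2 hx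
  letI := X.presheaf.algebra_section_stalk (⟨x, hx⟩ : U)
  letI := X.presheaf.algebra_section_stalk (⟨x', hx'⟩ : U)
  letI := (sp h).toAlgebra
  haveI := hU.isLocalization_stalk ⟨x, hx⟩
  haveI := hU.isLocalization_stalk ⟨x', hx'⟩
  haveI : IsScalarTower Γ(X, U) (X.presheaf.stalk x) (X.presheaf.stalk x') :=
    IsScalarTower.of_algebraMap_eq fun a => (sp_germ h U hx a).symm
  have hle := (specializes_iff hU hx' hx).1 h
  haveI := IsLocalization.isLocalization_of_submonoid_le (R := Γ(X, U)) (X.presheaf.stalk x)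
    (X.presheaf.stalk x') (hU.primeIdealOf ⟨x, hx⟩).asIdeal.primeCompl
    (hU.primeIdealOf ⟨x', hx'⟩).asIdeal.primeCompl fun a ha hn => ha (hle hn)
  obtain ⟨z, hz, hzb⟩ := (IsLocalization.algebraMap_mem_map_algebraMap_iff
    ((hU.primeIdealOf ⟨x', hx'⟩).asIdeal.primeCompl.map (algebraMap Γ(X, U) (X.presheaf.stalk x)))
    (X.presheaf.stalk x') P b).1 hb
  exact ⟨z, IsLocalization.map_units (X.presheaf.stalk x')
    (⟨z, hz⟩ : (hU.primeIdealOf ⟨x', hx'⟩).asIdeal.primeCompl.map (algebraMap Γ(X, U) (X.presheaf.stalk x))), hzb⟩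

theorem exists_fraction {x' x : X} (h : x' ⤳ x) (e : X.presheaf.stalk x') :
    ∃ z b, IsUnit (sp h z) ∧ sp h z * e = sp h b := by
  obtain ⟨U, hU, hx⟩ := exists_affine x
  have hx' := h.mem_open U.2 hx
  letI := X.presheaf.algebra_section_stalk (⟨x', hx'⟩ : U)
  haveI := hU.isLocalization_stalk ⟨x', hx'⟩
  obtain ⟨⟨b, s⟩, hs⟩ := IsLocalization.surj (hU.primeIdealOf ⟨x', hx'⟩).asIdeal.primeCompl e
  refine ⟨X.presheaf.germ U x hx s.1, X.presheaf.germ U x hx b, ?_, ?_⟩
  · rw [sp_germ]; exact IsLocalization.map_units (X.presheaf.stalk x') s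
  · rw [sp_germ, sp_germ, mul_comm]; exact hs

theorem ringKrullDim_stalk_lt [IsLocallyNoetherian X] {x' x : X} (h : x' ⤳ x) (hne : x' ≠ x) :
    ringKrullDim (X.presheaf.stalk x') < ringKrullDim (X.presheaf.stalk x) := by
  obtain ⟨U, hU, hx⟩ := exists_affine x
  have hx' := h.mem_open U.2 hx
  letI := X.presheaf.algebra_section_stalk (⟨x, hx⟩ : U)
  letI := X.presheaf.algebra_section_stalk (⟨x', hx'⟩ : U)
  haveI := hU.isLocalization_stalk ⟨x, hx⟩
  haveI := hU.isLocalization_stalk ⟨x', hx'⟩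
  haveI : IsNoetherianRing Γ(X, U) := IsLocallyNoetherian.component_noetherian ⟨U, hU⟩
  rw [IsLocalization.AtPrime.ringKrullDim_eq_height (hU.primeIdealOf ⟨x, hx⟩).asIdeal (X.presheaf.stalk x),
    IsLocalization.AtPrime.ringKrullDim_eq_height (hU.primeIdealOf ⟨x', hx'⟩).asIdeal (X.presheaf.stalk x'), WithBot.coe_lt_coe]
  refine Ideal.height_strict_mono_of_isPrime
    (lt_of_le_of_ne ((specializes_iff hU hx' hx).1 h) fun e => hne ?_)
  have := congrArg hU.fromSpec (PrimeSpectrum.ext e : hU.primeIdealOf ⟨x', hx'⟩ = hU.primeIdealOf ⟨x, hx⟩)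
  rwa [hU.fromSpec_primeIdealOf, hU.fromSpec_primeIdealOf] at this

/-- The stalk of an ideal sheaf. -/
noncomputable def stI (I : X.IdealSheafData) (x : X) : Ideal (X.presheaf.stalk x) :=
  ⨆ (U : X.affineOpens) (hx : x ∈ U.1), (I.ideal U).map (X.presheaf.germ U x hx).hom

theorem stI_eq (I : X.IdealSheafData) (V : X.affineOpens) {x : X} (hx : x ∈ V.1) :
    stI I x = (I.ideal V).map (X.presheaf.germ V x hx).hom := by
  refine le_antisymm (iSup₂_le fun U hxU => ?_) (le_iSup₂_of_le V hx le_rfl)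
  obtain ⟨r, s, hrs, hxr⟩ := exists_basicOpen_le_affine_inter U.2 V.2 x ⟨hxU, hx⟩
  have hW : X.affineBasicOpen r = X.affineBasicOpen s := Subtype.ext hrs
  have key : ∀ (W : X.affineOpens) (hxW : x ∈ W.1) (T : X.affineOpens) (hWT : W.1 ≤ T.1),
      (I.ideal T).map (X.presheaf.germ T x (hWT hxW)).hom =
        (I.ideal W).map (X.presheaf.germ W x hxW).hom := by
    intro W hxW T hWT
    rw [← I.map_ideal (U := W) (V := T) hWT, Ideal.map_map, ← CommRingCat.hom_comp]
    erw [X.presheaf.germ_res]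
  rw [key (X.affineBasicOpen r) hxr U (X.basicOpen_le r)]
  exact (key (X.affineBasicOpen r) hxr V ((le_of_eq hrs).trans (X.basicOpen_le s))).ge

theorem stI_sp (I : X.IdealSheafData) {x' x : X} (h : x' ⤳ x) :
    (stI I x).map (sp h) = stI I x' := by
  obtain ⟨U, hU, hx⟩ := exists_affine x
  rw [stI_eq I ⟨U, hU⟩ hx, stI_eq I ⟨U, hU⟩ (h.mem_open U.2 hx), Ideal.map_map, ← CommRingCat.hom_comp,
    X.presheaf.germ_stalkSpecializes]

theorem ideal_le_of_germ (V : X.affineOpens) (P Q : Ideal Γ(X, V.1))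
    (h : ∀ x (hx : x ∈ V.1), P.map (X.presheaf.germ V x hx).hom ≤ Q.map (X.presheaf.germ V x hx).hom) :
    P ≤ Q := by
  intro a ha
  by_contra hn
  obtain ⟨M, hM, hle⟩ := Ideal.exists_le_maximal (Q.colon {a}) (fun e => hn (by
    have := (Ideal.eq_top_iff_one _).1 e
    simpa [Submodule.mem_colon_singleton] using this))
  let P' : PrimeSpectrum Γ(X, V.1) := ⟨M, hM.isPrime⟩
  have hV : IsAffineOpen V.1 := V.2
  have hm : hV.fromSpec P' ∈ V.1 := hV.range_fromSpec.le ⟨_, rfl⟩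
  have hP : hV.primeIdealOf ⟨_, hm⟩ = P' :=
    hV.fromSpec.isOpenEmbedding.injective (hV.fromSpec_primeIdealOf _)
  letI := X.presheaf.algebra_section_stalk (⟨_, hm⟩ : V.1)
  haveI := hV.isLocalization_stalk ⟨_, hm⟩
  have hmem : algebraMap Γ(X, V.1) (X.presheaf.stalk (hV.fromSpec P')) a ∈
      Q.map (algebraMap Γ(X, V.1) (X.presheaf.stalk (hV.fromSpec P'))) :=
    h _ hm (Ideal.mem_map_of_mem _ ha)
  obtain ⟨m, hm1, hm2⟩ := (IsLocalization.algebraMap_mem_map_algebraMap_iff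
    (hV.primeIdealOf ⟨_, hm⟩).asIdeal.primeCompl _ Q a).1 hmem
  refine hm1 ?_
  show m ∈ (hV.primeIdealOf ⟨_, hm⟩).asIdeal
  rw [hP]
  exact hle (by simpa [Submodule.mem_colon_singleton] using hm2)

theorem idealSheaf_ext_of_stI {I J : X.IdealSheafData} (h : ∀ x, stI I x = stI J x) : I = J := by
  refine Scheme.IdealSheafData.ext (funext fun V => le_antisymm ?_ ?_) <;>
    refine ideal_le_of_germ V _ _ fun x hx => le_of_eq ?_
  · rw [← stI_eq, ← stI_eq, h]
  · rw [← stI_eq, ← stI_eq, h]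

end Groth.Agent.DivDesc12
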