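import Groth.Agent.Lib.DivDesc12.Sheaf
import Groth.Agent.Lib.DivDesc12.Fibre
import Groth.Agent.Lib.Descend.BaseChangeAt
import Groth.Prelude.Def_CAlg
import Mathlib.RingTheory.Nakayama

/-!
# Descent of effective Cartier divisors: hypotheses at the points of the base
-/

universe u

set_option linter.style.haveILetI false
set_option backward.isDefEq.respectTransparency false

open CategoryTheory Limits AlgebraicGeometry TopologicalSpace IsLocalRing

namespace Groth.Agent.DivDesc12

theorem depth_le_one {A : Type u} [CommRing A] [IsLocalRing A] (h : ¬ HasRegPair A) :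
    LocCoh.depth A A ≤ 1 := by
  unfold LocCoh.depth LocCoh.idealDepth
  rw [if_neg (by
    rw [smul_eq_mul, Ideal.mul_top]; exact (maximalIdeal.isMaximal A).ne_top)]
  refine iSup₂_le fun rs hrs => ?_
  match rs, hrs with
  | [], _ => simp
  | [_], _ => simp
  | t :: s :: rest, ⟨hreg, hm⟩ =>
    refine (h ⟨t, s, hm t (by simp), hm s (by simp), ?_⟩).elim
    simp only [RingTheory.Sequence.isWeaklyRegular_cons_iff] at hreg ⊢
    exact ⟨hreg.1, hreg.2.1, RingTheory.Sequence.IsWeaklyRegular.nil _ _⟩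

variable {X Y : Scheme.{u}}

/-- Inverse images of effective Cartier divisors along flat morphisms. -/
theorem isEffCartier_comap (g : X ⟶ Y) [Flat g] {I : Y.IdealSheafData} (hI : BlowUp.IsEffCartierIdeal I) :
    BlowUp.IsEffCartierIdeal (I.comap g) := by
  intro x
  obtain ⟨U, hxU, e, he, heq⟩ := hI (g x)
  obtain ⟨V, hV, hxV, hle⟩ := exists_isAffineOpen_mem_and_subset (X := X) (x := x) (U := g ⁻¹ᵁ U.1) hxU
  refine ⟨⟨V, hV⟩, hxV, g.appLE U.1 V hle e, ?_, ?_⟩
  · algebraize [(g.appLE U.1 V hle).hom]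
    have hfl : (g.appLE U.1 V hle).hom.Flat := Flat.flat_appLE g U.2 hV hle
    haveI : Module.Flat Γ(Y, U.1) Γ(X, V) := RingHom.flat_algebraMap_iff.1 hfl
    have h1 : RingTheory.Sequence.IsWeaklyRegular Γ(Y, U.1) [e] := by
      simp only [RingTheory.Sequence.isWeaklyRegular_cons_iff]
      refine ⟨IsSMulRegular.of_right_eq_zero_of_smul fun x hx => ?_, RingTheory.Sequence.IsWeaklyRegular.nil _ _⟩
      exact (mul_left_mem_nonZeroDivisors_eq_zero_iff he).1 (by rwa [smul_eq_mul] at hx)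
    have h2 := h1.of_flat (S := Γ(X, V))
    simp only [List.map_cons, List.map_nil, RingTheory.Sequence.isWeaklyRegular_cons_iff] at h2
    refine mem_nonZeroDivisors_iff_right.2 fun x hx => h2.1.right_eq_zero_of_smul ?_
    rw [smul_eq_mul, mul_comm]; exact hx
  · rw [EffCartier.comap_ideal I g U ⟨V, hV⟩ hle, heq, Ideal.map_span, Set.image_singleton]

variable (f : X ⟶ Y) (J : X.IdealSheafData)

theorem σ_comp {W : Scheme.{u}} (g : W ⟶ X) (w : W) {y : Y} (h : (g ≫ f) w ⤳ y) (a : Y.presheaf.stalk y) :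
    σ (g ≫ f) w h a = g.stalkMap w (σ f (g w) h a) := by
  show (g ≫ f).stalkMap w (sp h a) = g.stalkMap w (f.stalkMap (g w) (sp h a))
  rw [Scheme.Hom.stalkMap_comp]
  rfl

theorem σ_congr {W : Scheme.{u}} {p q : W ⟶ Y} (e : p = q) (w : W) {y : Y} (h : p w ⤳ y) (h' : q w ⤳ y)
    (a : Y.presheaf.stalk y) : σ p w h a = σ q w h' a := by
  subst e; rfl

/-- An equation at `y` from a descended divisor on `Spec O_y`. -/
theorem exists_isDesc_of_specStalk [Flat f] [Surjective f] (y : Y)
    {I₁ : (Spec (Y.presheaf.stalk y)).IdealSheafData} (hI₁ : BlowUp.IsEffCartierIdeal I₁)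
    (hI₁J : I₁.comap (pullback.snd f (Y.fromSpecStalk y)) = J.comap (pullback.fst f (Y.fromSpecStalk y))) :
    ∃ a, IsDesc f J y a := by
  let ι := Y.fromSpecStalk y
  let c : Spec (Y.presheaf.stalk y) := closedPoint (Y.presheaf.stalk y)
  have hc : ι c = y := Scheme.fromSpecStalk_closedPoint
  haveI : Flat ι := Descend.flat_fromSpecStalk y
  have hcs : ι c ⤳ y := specializes_of_eq hc
  have hinj : Function.Injective (σ ι c hcs) := by
    letI := (σ ι c hcs).toAlgebra
    haveI : IsLocalHom (algebraMap (Y.presheaf.stalk y) ((Spec (Y.presheaf.stalk y)).presheaf.stalk c)) :=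
      isLocalHom_σ ι hc hcs
    haveI : Module.Flat (Y.presheaf.stalk y) ((Spec (Y.presheaf.stalk y)).presheaf.stalk c) :=
      RingHom.flat_algebraMap_iff.1 (σ_flat ι hc hcs)
    haveI := Module.FaithfullyFlat.of_flat_of_isLocalHom (A := Y.presheaf.stalk y)
      (B := (Spec (Y.presheaf.stalk y)).presheaf.stalk c)
    exact FaithfulSMul.algebraMap_injective _ _
  have hsurj : Function.Surjective (σ ι c hcs) := fun b => by
    obtain ⟨b', hb'⟩ := ι.stalkMap_surjective c b
    refine ⟨sp (specializes_of_eq hc.symm) b', ?_⟩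
    show ι.stalkMap c (sp hcs (sp _ b')) = b
    rw [sp_comp, sp_self]; exact hb'
  obtain ⟨g₁, hg₁, hg₁I⟩ := exists_gen_regular I₁ hI₁ c
  obtain ⟨a, rfl⟩ := hsurj g₁
  refine ⟨a, mem_nonZeroDivisors_iff_right.2 fun x hx => hinj ?_, fun x h hx => ?_⟩
  · rw [map_zero]
    exact (mul_right_mem_nonZeroDivisors_eq_zero_iff hg₁).1 (by rw [← map_mul, hx, map_zero])
  obtain ⟨z, hz₁, hz₂⟩ := Scheme.Pullback.exists_preimage_pullback (f := f) (g := ι) x c (hx.trans hc.symm)
  subst hz₁
  let p₁ := pullback.fst f ι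
  let p₂ := pullback.snd f ι
  haveI : Flat p₁ := MorphismProperty.pullback_fst _ _ inferInstance
  have h2 : p₂ z ⤳ c := specializes_of_eq hz₂
  have e1 : stI (I₁.comap p₂) z = Ideal.span {σ p₂ z h2 (σ ι c hcs a)} := by
    rw [stI_comap]
    have : stI I₁ (p₂ z) = Ideal.span {sp h2 (σ ι c hcs a)} := by
      rw [← stI_sp I₁ h2, hg₁I, Ideal.map_span, Set.image_singleton]
    rw [this, Ideal.map_span, Set.image_singleton]
    rfl
  have h2' : (p₂ ≫ ι) z ⤳ y := specializes_of_eq ((congrArg ι hz₂).trans hc)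
  have e2 : σ p₂ z h2 (σ ι c hcs a) = σ (p₂ ≫ ι) z h2' a := by
    show p₂.stalkMap z (sp h2 (ι.stalkMap c (sp hcs a))) = _
    rw [σ_comp]
    refine congrArg _ ?_
    show sp h2 (ι.stalkMap c (sp hcs a)) = ι.stalkMap (p₂ z) (sp h2' a)
    show (Spec (Y.presheaf.stalk y)).presheaf.stalkSpecializes h2 _ = _
    rw [← Scheme.Hom.stalkSpecializes_stalkMap_apply]
    exact congrArg _ (sp_comp _ hcs a)
  have e3 : σ (p₂ ≫ ι) z h2' a = p₁.stalkMap z (σ f (p₁ z) h a) := by
    rw [← σ_comp f p₁ z (show (p₁ ≫ f) z ⤳ y from h) a]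
    exact σ_congr pullback.condition.symm z _ _ a
  have e4 : (stI J (p₁ z)).map (p₁.stalkMap z).hom =
      (Ideal.span {σ f (p₁ z) h a}).map (p₁.stalkMap z).hom := by
    rw [← stI_comap, ← hI₁J, e1, e2, e3, Ideal.map_span, Set.image_singleton]
  letI := (p₁.stalkMap z).hom.toAlgebra
  haveI : IsLocalHom (algebraMap (X.presheaf.stalk (p₁ z)) ((pullback f ι).presheaf.stalk z)) :=
    inferInstanceAs (IsLocalHom (p₁.stalkMap z).hom)
  haveI : Module.Flat (X.presheaf.stalk (p₁ z)) ((pullback f ι).presheaf.stalk z) :=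
    RingHom.flat_algebraMap_iff.1 (Flat.stalkMap p₁ z)
  haveI := Module.FaithfullyFlat.of_flat_of_isLocalHom (A := X.presheaf.stalk (p₁ z))
    (B := (pullback f ι).presheaf.stalk z)
  have := congrArg (Ideal.comap (algebraMap (X.presheaf.stalk (p₁ z)) ((pullback f ι).presheaf.stalk z))) e4
  erw [Ideal.comap_map_eq_self_of_faithfullyFlat, Ideal.comap_map_eq_self_of_faithfullyFlat] at this
  exact this.symm

/-- A maximal point has only one prime in its local ring. -/
theorem primeAt_eq_maximal_of_maximal {η : Y} (hη : ∀ z : Y, z ⤳ η → z = η)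
    (q : Ideal (Y.presheaf.stalk η)) [q.IsPrime] : q = maximalIdeal _ := by
  obtain ⟨z, h, rfl⟩ := exists_primeAt_eq η q
  obtain rfl := hη z h
  exact primeAt_self z h

theorem isUnit_of_nzd_of_maximal {η : Y} (hη : ∀ z : Y, z ⤳ η → z = η) {a : Y.presheaf.stalk η}
    (ha : a ∈ nonZeroDivisors (Y.presheaf.stalk η)) : IsUnit a := by
  by_contra hn
  have : a ∈ nilradical (Y.presheaf.stalk η) := by
    rw [nilradical_eq_sInf, Submodule.mem_sInf]
    intro q hq
    haveI : Ideal.IsPrime q := hq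
    rw [primeAt_eq_maximal_of_maximal hη q]; exact hn
  obtain ⟨n, hn⟩ := this
  have := pow_mem ha n
  rw [hn] at this
  exact zero_notMem_nonZeroDivisors this

theorem stI_top (x : X) : stI (⊤ : X.IdealSheafData) x = ⊤ := by
  obtain ⟨U, hU, hx⟩ := exists_affine x
  rw [stI_eq ⊤ ⟨U, hU⟩ hx, Scheme.IdealSheafData.ideal_top, Pi.top_apply, Ideal.map_top]

theorem comap_fiberι_eq_top_iff (y : Y) :
    J.comap (f.fiberι y) = ⊤ ↔ ∀ x, f x = y → stI J x = ⊤ := by
  constructor
  · intro h x hx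
    obtain ⟨z, rfl⟩ := (f.range_fiberι y).symm.le hx
    by_contra hn
    have h1 := stI_top (X := f.fiber y) z
    rw [← h, stI_comap] at h1
    refine (maximalIdeal.isMaximal ((f.fiber y).presheaf.stalk z)).ne_top (top_le_iff.1 ?_)
    rw [← h1]
    exact (Ideal.map_mono (le_maximalIdeal hn)).trans
      (((IsLocalRing.local_hom_TFAE ((f.fiberι y).stalkMap z).hom).out 0 2
        (a := IsLocalHom ((f.fiberι y).stalkMap z).hom)).1 inferInstance)
  · intro h
    refine idealSheaf_ext_of_stI fun z => ?_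
    rw [stI_comap, stI_top, h _ ((f.range_fiberι y).le ⟨z, rfl⟩), Ideal.map_top]

theorem isDesc_one_of_maximal {η : Y} (h : J.comap (f.fiberι η) = ⊤) : IsDesc f J η 1 :=
  ⟨one_mem _, fun x hs hx => by
    rw [Gen, map_one, Ideal.span_singleton_one, (comap_fiberι_eq_top_iff f J η).1 h x hx]⟩

theorem comap_fiberι_eq_top_of_isDesc {η : Y} (hη : ∀ z : Y, z ⤳ η → z = η) {a : Y.presheaf.stalk η}
    (ha : IsDesc f J η a) : J.comap (f.fiberι η) = ⊤ := by
  rw [comap_fiberι_eq_top_iff]
  intro x hx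
  rw [← ha.2 x (specializes_of_eq hx) hx, Ideal.span_singleton_eq_top]
  exact (isUnit_of_nzd_of_maximal hη ha.1).map _

theorem eq_of_specializes_of_dim_le_zero [IsLocallyNoetherian Y] {y : Y}
    (h : ringKrullDim (Y.presheaf.stalk y) ≤ 0) (z : Y) (hz : z ⤳ y) : z = y := by
  by_contra hn
  exact (lt_of_le_of_lt ringKrullDim_nonneg_of_nontrivial
    ((ringKrullDim_stalk_lt hz hn).trans_le h)).false

end Groth.Agent.DivDesc12
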