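import Groth.Agent.Lib.DivDesc12.Desc
import Mathlib.AlgebraicGeometry.Morphisms.FlatDescent

/-!
# Descent of effective Cartier divisors: the ideal sheaf on the base
-/

universe u

set_option linter.style.haveILetI false

open CategoryTheory Limits AlgebraicGeometry TopologicalSpace

namespace Groth.Agent.DivDesc12

variable {X Y : Scheme.{u}}

/-- Divisibility of germs spreads out. -/
theorem exists_nhd_mem_span {U : X.Opens} (a e : Γ(X, U)) {x : X} (hx : x ∈ U)
    (h : X.presheaf.germ U x hx a ∈ Ideal.span {X.presheaf.germ U x hx e}) :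
    ∃ W : X.Opens, x ∈ W ∧ ∃ hWU : W ≤ U, ∀ z (hz : z ∈ W),
      X.presheaf.germ U z (hWU hz) a ∈ Ideal.span {X.presheaf.germ U z (hWU hz) e} := by
  obtain ⟨c, hc⟩ := Ideal.mem_span_singleton'.1 h
  obtain ⟨W₁, hx₁, c', rfl⟩ := X.presheaf.exists_germ_eq c
  let W₀ : X.Opens := W₁ ⊓ U
  have hx₀ : x ∈ W₀ := ⟨hx₁, hx⟩
  have e1 : X.presheaf.germ W₀ x hx₀
      (X.presheaf.map (homOfLE inf_le_left : W₀ ⟶ W₁).op c' * X.presheaf.map (homOfLE inf_le_right : W₀ ⟶ U).op e) =
      X.presheaf.germ W₀ x hx₀ (X.presheaf.map (homOfLE inf_le_right : W₀ ⟶ U).op a) := by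
    rw [map_mul, X.presheaf.germ_res_apply, X.presheaf.germ_res_apply, X.presheaf.germ_res_apply]
    exact hc
  obtain ⟨W, hxW, i₁, i₂, hW⟩ := X.presheaf.germ_eq x _ _ _ _ e1
  refine ⟨W, hxW, i₁.le.trans inf_le_right, fun z hz => Ideal.mem_span_singleton'.2
    ⟨X.presheaf.germ W₁ z (inf_le_left (b := U) (i₁.le hz)) c', ?_⟩⟩
  have := congrArg (X.presheaf.germ W z hz) hW
  simpa [X.presheaf.germ_res_apply] using this

/-- An ideal sheaf with prescribed locally principal stalks. -/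
theorem exists_idealSheaf (I : ∀ y : X, Ideal (X.presheaf.stalk y))
    (hI : ∀ y : X, ∃ (U : X.affineOpens) (_ : y ∈ U.1) (e : Γ(X, U.1)),
      ∀ z (hz : z ∈ U.1), I z = Ideal.span {X.presheaf.germ U.1 z hz e}) :
    ∃ 𝓘 : X.IdealSheafData, ∀ y, stI 𝓘 y = I y := by
  have hsp : ∀ {z' z : X} (h : z' ⤳ z), (I z).map (sp h) = I z' := by
    intro z' z h
    obtain ⟨U, hz, e, he⟩ := hI z
    rw [he z hz, he z' (h.mem_open U.1.2 hz), Ideal.map_span, Set.image_singleton, sp_germ]
  let K : ∀ U : X.affineOpens, Ideal Γ(X, U.1) := fun U =>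
    ⨅ (z : X) (hz : z ∈ U.1), (I z).comap (X.presheaf.germ U.1 z hz).hom
  have hK : ∀ (U : X.affineOpens) (a : Γ(X, U.1)),
      a ∈ K U ↔ ∀ z (hz : z ∈ U.1), X.presheaf.germ U.1 z hz a ∈ I z := fun U a => by
    simp only [K, Submodule.mem_iInf, Ideal.mem_comap]
  have hbasic : ∀ (U : X.affineOpens) (h : Γ(X, U.1)),
      (K U).map (X.presheaf.map (homOfLE (X.basicOpen_le h)).op).hom = K (X.affineBasicOpen h) := by
    intro U h
    have hU : IsAffineOpen U.1 := U.2
    letI : Algebra Γ(X, U.1) Γ(X, X.basicOpen h) :=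
      (X.presheaf.map (homOfLE (X.basicOpen_le h)).op).hom.toAlgebra
    haveI : IsLocalization.Away h Γ(X, X.basicOpen h) := hU.isLocalization_basicOpen h
    refine le_antisymm (Ideal.map_le_iff_le_comap.2 fun a ha => ?_) fun a' ha' => ?_
    · refine Ideal.mem_comap.2 ((hK _ _).2 ?_)
      intro z hz
      erw [X.presheaf.germ_res_apply]
      exact (hK U a).1 ha z _
    obtain ⟨a, s, rfl⟩ := IsLocalization.exists_mk'_eq (Submonoid.powers h) a'
    have ha : ∀ z (hz : z ∈ U.1), z ∈ X.basicOpen h → X.presheaf.germ U.1 z hz a ∈ I z := by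
      intro z hz hzh
      have := (hK _ _).1 ha' z hzh
      have e := congrArg (X.presheaf.germ (X.basicOpen h) z hzh)
        (IsLocalization.mk'_spec Γ(X, X.basicOpen h) a s)
      rw [map_mul] at e
      erw [X.presheaf.germ_res_apply, X.presheaf.germ_res_apply] at e
      exact e ▸ (I z).mul_mem_right _ this
    let N : ℕ → Set X := fun n => {z | ∃ hz : z ∈ U.1, X.presheaf.germ U.1 z hz (h ^ n * a) ∈ I z}
    have hopen : ∀ n, IsOpen (N n) := by
      intro n
      refine isOpen_iff_forall_mem_open.2 ?_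
      rintro z ⟨hz, hm⟩
      obtain ⟨V, hzV, e, he⟩ := hI z
      rw [he z hzV] at hm
      have hzUV : z ∈ U.1 ⊓ V.1 := ⟨hz, hzV⟩
      obtain ⟨W, hzW, hWle, hW⟩ := exists_nhd_mem_span
        (X.presheaf.map (homOfLE (inf_le_left : U.1 ⊓ V.1 ≤ U.1)).op (h ^ n * a))
        (X.presheaf.map (homOfLE (inf_le_right : U.1 ⊓ V.1 ≤ V.1)).op e) (x := z) hzUV
        (by rw [X.presheaf.germ_res_apply, X.presheaf.germ_res_apply]; exact hm)
      refine ⟨W, fun w hw => ⟨(hWle hw).1, ?_⟩, W.2, hzW⟩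
      have := hW w hw
      rw [X.presheaf.germ_res_apply, X.presheaf.germ_res_apply] at this
      rwa [he w (hWle hw).2]
    have hcov : (U.1 : Set X) ⊆ ⋃ n, N n := by
      intro z hz
      let C : Ideal (X.presheaf.stalk z) := (I z).colon {X.presheaf.germ U.1 z hz a}
      have hrad : X.presheaf.germ U.1 z hz h ∈ C.radical := by
        rw [Ideal.radical_eq_sInf, Submodule.mem_sInf]
        rintro q ⟨hCq, hq⟩
        by_contra hn
        haveI := hq
        obtain ⟨z', h', rfl⟩ := exists_primeAt_eq z q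
        rw [mem_primeAt, not_not, sp_germ] at hn
        have hz' := ha z' (h'.mem_open U.1.2 hz)
          ((Scheme.mem_basicOpen X h z' (h'.mem_open U.1.2 hz)).2 hn)
        rw [← sp_germ h' U.1 hz a, ← hsp h'] at hz'
        obtain ⟨w, hw, hw'⟩ := exists_mul_mem h' _ _ hz'
        exact (mem_primeAt h').1 (hCq (Submodule.mem_colon_singleton.2 hw')) hw
      obtain ⟨n, hn⟩ := hrad
      refine Set.mem_iUnion.2 ⟨n, hz, ?_⟩
      rw [map_mul, map_pow]
      exact Submodule.mem_colon_singleton.1 hn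
    obtain ⟨t, ht⟩ := hU.isCompact.elim_finite_subcover N hopen hcov
    have hmem : h ^ t.sup id * a ∈ K U := by
      rw [hK]
      intro z hz
      obtain ⟨n, hn, hz₁, hm⟩ := Set.mem_iUnion₂.1 (ht hz)
      rw [map_mul, map_pow] at hm ⊢
      rw [← Nat.sub_add_cancel (Finset.le_sup (f := id) hn), pow_add, mul_assoc]
      exact (I z).mul_mem_left _ hm
    exact (IsLocalization.mk'_mem_map_algebraMap_iff (Submonoid.powers h) _ _ a s).2
      ⟨h ^ t.sup id, ⟨_, rfl⟩, hmem⟩
  let 𝓘 : X.IdealSheafData := { ideal := K, map_ideal_basicOpen := hbasic }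
  refine ⟨𝓘, fun y => ?_⟩
  obtain ⟨U, hy, e, he⟩ := hI y
  have hle : K U = Ideal.span {e} := by
    refine le_antisymm (ideal_le_of_germ U _ _ fun z hz => ?_) ((Ideal.span_singleton_le_iff_mem _).2 ?_)
    · rw [Ideal.map_span, Set.image_singleton]
      refine Ideal.map_le_iff_le_comap.2 fun a ha => ?_
      rw [Ideal.mem_comap]
      exact he z hz ▸ (hK U a).1 ha z hz
    · rw [hK]; intro z hz; rw [he z hz]; exact Ideal.mem_span_singleton_self _
  rw [stI_eq 𝓘 U hy, he y hy, show 𝓘.ideal U = Ideal.span {e} from hle, Ideal.map_span, Set.image_singleton]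

theorem stI_comap (I : Y.IdealSheafData) (g : X ⟶ Y) (x : X) :
    stI (I.comap g) x = (stI I (g x)).map (g.stalkMap x).hom := by
  obtain ⟨U, hU, hxU, -⟩ := exists_isAffineOpen_mem_and_subset (X := Y) (x := g x) (U := ⊤) trivial
  obtain ⟨V, hV, hxV, hle⟩ := exists_isAffineOpen_mem_and_subset (X := X) (x := x) (U := g ⁻¹ᵁ U) hxU
  rw [stI_eq _ ⟨V, hV⟩ hxV, stI_eq I ⟨U, hU⟩ hxU, EffCartier.comap_ideal I g ⟨U, hU⟩ ⟨V, hV⟩ hle,
    Ideal.map_map, Ideal.map_map, ← CommRingCat.hom_comp, ← CommRingCat.hom_comp, Scheme.Hom.germ_stalkMap,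
    show g.appLE U V hle = g.app U ≫ X.presheaf.map (homOfLE hle).op from rfl, Category.assoc]
  erw [X.presheaf.germ_res]

variable (f : X ⟶ Y) (J : X.IdealSheafData)

/-- A descended divisor gives equations at every point. -/
theorem isDesc_of_comap_eq [Flat f] {I : Y.IdealSheafData} (hI : BlowUp.IsEffCartierIdeal I)
    (hIJ : I.comap f = J) (y : Y) : ∃ a, IsDesc f J y a := by
  obtain ⟨a, ha, haI⟩ := exists_gen_regular I hI y
  refine ⟨a, ha, fun x h hx => ?_⟩
  subst hx
  show Ideal.span {f.stalkMap x (sp h a)} = stI J x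
  rw [sp_self, ← hIJ, stI_comap, haI, Ideal.map_span, Set.image_singleton]

theorem isQuotientMap_of (hf : QuasiCompact f ∨ IsOpenMap f) [Flat f] [Surjective f] :
    Topology.IsQuotientMap f := by
  rcases hf with h | h
  · exact Flat.isQuotientMap_of_surjective f
  · exact h.isQuotientMap f.continuous f.surjective

/-- Descent of effective Cartier divisors, given equations at all points of the base. -/
theorem descends [Flat f] [Surjective f] (hf : QuasiCompact f ∨ IsOpenMap f)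
    (hJ : BlowUp.IsEffCartierIdeal J) (h : ∀ y, ∃ a, IsDesc f J y a) :
    ∃ 𝓘 : Y.IdealSheafData, BlowUp.IsEffCartierIdeal 𝓘 ∧ 𝓘.comap f = J := by
  choose a ha using h
  have spread : ∀ y : Y, ∃ (U : Y.affineOpens) (_ : y ∈ U.1) (e : Γ(Y, U.1)),
      ∀ z (hz : z ∈ U.1), IsDesc f J z (Y.presheaf.germ U.1 z hz e) := by
    intro y
    obtain ⟨W, hyW, e, he⟩ := Y.presheaf.exists_germ_eq (a y)
    let S : Set Y := {z | ∃ hz : z ∈ W, IsDesc f J z (Y.presheaf.germ W z hz e)}
    have hpre : f ⁻¹' S = {x | ∃ hx : x ∈ f ⁻¹ᵁ W,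
        Ideal.span {X.presheaf.germ (f ⁻¹ᵁ W) x hx (f.app W e)} = stI J x} := by
      ext x
      constructor
      · rintro ⟨hz, hd⟩
        have := hd.2 x specializes_rfl rfl
        rw [Gen, σ_germ] at this
        exact ⟨hz, this⟩
      · rintro ⟨hz, hd⟩
        refine ⟨hz, isDesc_of_gen f J (x := x) rfl (h := specializes_rfl) (ha (f x)) ?_⟩
        rw [Gen]; erw [σ_germ]; exact hd
    have hS : IsOpen S := by
      rw [← (isQuotientMap_of f hf).isOpen_preimage, hpre]
      refine isOpen_iff_forall_mem_open.2 ?_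
      rintro x ⟨hx, hd⟩
      obtain ⟨V, hxV, hVW, g, hg⟩ := EffCartier.exists_isEqn hJ hx
      have hgz : ∀ z (hz : z ∈ V.1), stI J z = Ideal.span {X.presheaf.germ V.1 z hz g} := fun z hz => by
        rw [stI_eq J V hz, hg.ideal_eq, Ideal.map_span, Set.image_singleton]
      let e' := X.presheaf.map (homOfLE hVW).op (f.app W e)
      have hge : ∀ z (hz : z ∈ V.1), X.presheaf.germ V.1 z hz e' =
          X.presheaf.germ (f ⁻¹ᵁ W) z (hVW hz) (f.app W e) := fun z hz => X.presheaf.germ_res_apply _ z hz _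
      rw [← hge x hxV, hgz x hxV] at hd
      obtain ⟨W₁, h1, hW₁, k1⟩ := exists_nhd_mem_span e' g hxV (hd.le (Ideal.mem_span_singleton_self _))
      obtain ⟨W₂, h2, hW₂, k2⟩ := exists_nhd_mem_span g e' hxV (hd.ge (Ideal.mem_span_singleton_self _))
      refine ⟨(W₁ ⊓ W₂ : X.Opens), fun z hz => ⟨hVW (hW₁ hz.1), ?_⟩, (W₁ ⊓ W₂).2, ⟨h1, h2⟩⟩
      rw [← hge z (hW₁ hz.1), hgz z (hW₁ hz.1)]
      exact le_antisymm ((Ideal.span_singleton_le_iff_mem _).2 (k1 z hz.1))
        ((Ideal.span_singleton_le_iff_mem _).2 (k2 z hz.2))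
    obtain ⟨U, hU, hyU, hUS⟩ := exists_isAffineOpen_mem_and_subset (X := Y) (x := y) (U := ⟨S, hS⟩)
      (⟨hyW, he ▸ ha y⟩ : y ∈ S)
    have hUW : U ≤ W := fun z hz => (hUS hz).1
    refine ⟨⟨U, hU⟩, hyU, Y.presheaf.map (homOfLE hUW).op e, fun z hz => ?_⟩
    rw [Y.presheaf.germ_res_apply]
    exact (hUS hz).2
  obtain ⟨𝓘, h𝓘⟩ := exists_idealSheaf (fun y => Ideal.span {a y}) (fun y => by
    obtain ⟨U, hy, e, he⟩ := spread y
    refine ⟨U, hy, e, fun z hz => ?_⟩
    obtain ⟨x, rfl⟩ := f.surjective z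
    exact span_eq_of_σ f (x := x) rfl specializes_rfl
      (((ha _).2 x specializes_rfl rfl).trans ((he _ hz).2 x specializes_rfl rfl).symm))
  refine ⟨𝓘, fun y => ?_, idealSheaf_ext_of_stI fun x => ?_⟩
  · obtain ⟨U, hy, e, he⟩ := spread y
    have hspan : ∀ z (hz : z ∈ U.1), stI 𝓘 z = Ideal.span {Y.presheaf.germ U.1 z hz e} := fun z hz => by
      rw [h𝓘 z]
      obtain ⟨x, rfl⟩ := f.surjective z
      exact span_eq_of_σ f (x := x) rfl specializes_rfl
        (((ha _).2 x specializes_rfl rfl).trans ((he _ hz).2 x specializes_rfl rfl).symm)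
    refine ⟨U, hy, e, mem_nonZeroDivisors_iff_right.2 fun b hb => ?_, le_antisymm ?_ ?_⟩
    · have : Ideal.span {b} ≤ ⊥ := ideal_le_of_germ U _ _ fun z hz => by
        rw [Ideal.map_span, Set.image_singleton, Ideal.map_bot, Ideal.span_singleton_le_iff_mem, Submodule.mem_bot]
        exact (mul_right_mem_nonZeroDivisors_eq_zero_iff (he z hz).1).1 (by rw [← map_mul, hb, map_zero])
      simpa using (Ideal.span_singleton_le_iff_mem _).1 this
    all_goals refine ideal_le_of_germ U _ _ fun z hz => le_of_eq ?_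
    · rw [← stI_eq 𝓘 U hz, hspan z hz, Ideal.map_span, Set.image_singleton]
    · rw [← stI_eq 𝓘 U hz, hspan z hz, Ideal.map_span, Set.image_singleton]
  · rw [stI_comap, h𝓘 (f x), Ideal.map_span, Set.image_singleton]
    have := (ha (f x)).2 x specializes_rfl rfl
    unfold Gen σ at this
    rw [RingHom.comp_apply, sp_self] at this
    exact this

end Groth.Agent.DivDesc12
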