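import Groth.Agent.Lib.DivDesc12.Ring
import Groth.Agent.Lib.DivDesc12.Stalk
import Groth.Agent.Lib.EffCartier.Basic
import Mathlib.RingTheory.Flat.FaithfullyFlat.Algebra

/-!
# Descent of effective Cartier divisors: the generators at the points of the base
-/

universe u

set_option linter.style.haveILetI false

open CategoryTheory Limits AlgebraicGeometry TopologicalSpace IsLocalRing

namespace Groth.Agent.DivDesc12

variable {X Y : Scheme.{u}} (f : X ⟶ Y)

/-- `O_y → O_x` for `f x ⤳ y`. -/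
noncomputable def σ (x : X) {y : Y} (h : f x ⤳ y) : Y.presheaf.stalk y →+* X.presheaf.stalk x :=
  (f.stalkMap x).hom.comp (sp h)

theorem σ_sp {x' x : X} (h : x' ⤳ x) {y' y : Y} (hy : y' ⤳ y) (hx : f x ⤳ y) (hx' : f x' ⤳ y')
    (a : Y.presheaf.stalk y) : σ f x' hx' (sp hy a) = sp h (σ f x hx a) := by
  show f.stalkMap x' (sp hx' (sp hy a)) = sp h (f.stalkMap x (sp hx a))
  rw [sp_comp]
  show f.stalkMap x' (sp (hx'.trans hy) a) = X.presheaf.stalkSpecializes h (f.stalkMap x (sp hx a))
  rw [← Scheme.Hom.stalkSpecializes_stalkMap_apply]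
  exact congrArg _ (sp_comp (h.map f.continuous) hx a).symm

theorem σ_germ (x : X) {y : Y} (h : f x ⤳ y) (U : Y.Opens) (hy : y ∈ U) (a : Γ(Y, U)) :
    σ f x h (Y.presheaf.germ U y hy a) =
      X.presheaf.germ (f ⁻¹ᵁ U) x (h.mem_open U.2 hy) (f.app U a) := by
  show f.stalkMap x (sp h _) = _
  rw [sp_germ, Scheme.Hom.germ_stalkMap_apply]

variable (J : X.IdealSheafData)

/-- `a` generates `J` at `x`. -/
def Gen (x : X) {y : Y} (h : f x ⤳ y) (a : Y.presheaf.stalk y) : Prop :=
  Ideal.span {σ f x h a} = stI J x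

/-- `a` is the equation of a descended divisor at `y`. -/
def IsDesc (y : Y) (a : Y.presheaf.stalk y) : Prop :=
  a ∈ nonZeroDivisors (Y.presheaf.stalk y) ∧ ∀ (x : X) (h : f x ⤳ y), f x = y → Gen f J x h a

theorem Gen.mono {x' x : X} (h : x' ⤳ x) {y' y : Y} (hy : y' ⤳ y) {hx : f x ⤳ y} (hx' : f x' ⤳ y')
    {a : Y.presheaf.stalk y} (hg : Gen f J x hx a) : Gen f J x' hx' (sp hy a) := by
  unfold Gen at hg ⊢
  rw [σ_sp f h hy hx hx' a, ← stI_sp J h, ← hg, Ideal.map_span, Set.image_singleton]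

theorem exists_gen_regular (hJ : BlowUp.IsEffCartierIdeal J) (x : X) :
    ∃ g ∈ nonZeroDivisors (X.presheaf.stalk x), stI J x = Ideal.span {g} := by
  obtain ⟨U, hxU, e, he, heq⟩ := hJ x
  have hU : IsAffineOpen U.1 := U.2
  refine ⟨X.presheaf.germ U.1 x hxU e, ?_, ?_⟩
  · letI := X.presheaf.algebra_section_stalk (⟨x, hxU⟩ : U.1)
    haveI := hU.isLocalization_stalk ⟨x, hxU⟩
    exact IsLocalization.map_nonZeroDivisors_le (hU.primeIdealOf ⟨x, hxU⟩).asIdeal.primeCompl _ ⟨e, he, rfl⟩
  · rw [stI_eq J U hxU, heq, Ideal.map_span, Set.image_singleton]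

variable [Flat f]

theorem σ_flat {x : X} {y : Y} (hx : f x = y) (h : f x ⤳ y) : (σ f x h).Flat := by
  subst hx
  have : σ f x h = (f.stalkMap x).hom := RingHom.ext fun a => by
    show f.stalkMap x (sp h a) = _
    rw [sp_self]
  rw [this]
  exact Flat.stalkMap f x

omit [Flat f] in
theorem isLocalHom_σ {x : X} {y : Y} (hx : f x = y) (h : f x ⤳ y) : IsLocalHom (σ f x h) := by
  subst hx
  have : σ f x h = (f.stalkMap x).hom := RingHom.ext fun a => by
    show f.stalkMap x (sp h a) = _
    rw [sp_self]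
  rw [this]
  infer_instance

omit [Flat f] in
theorem comap_primeAt {x' x : X} (h : x' ⤳ x) {y' y : Y} (hy : y' ⤳ y) (hx : f x ⤳ y) (hx' : f x' = y') :
    (primeAt h).comap (σ f x hx) = primeAt hy := by
  have h' : f x' ⤳ y' := hx' ▸ specializes_rfl
  haveI := isLocalHom_σ f hx' h'
  ext a
  rw [Ideal.mem_comap, mem_primeAt, mem_primeAt, ← σ_sp f h hy hx h' a, isUnit_map_iff]

theorem exists_over {x : X} {y' y : Y} (hy : y' ⤳ y) (hx : f x = y) : ∃ x' : X, x' ⤳ x ∧ f x' = y' := by
  have h : f x ⤳ y := hx ▸ specializes_rfl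
  letI := (σ f x h).toAlgebra
  haveI : IsLocalHom (algebraMap (Y.presheaf.stalk y) (X.presheaf.stalk x)) := isLocalHom_σ f hx h
  haveI : Module.Flat (Y.presheaf.stalk y) (X.presheaf.stalk x) :=
    RingHom.flat_algebraMap_iff.1 (σ_flat f hx h)
  haveI := Module.FaithfullyFlat.of_flat_of_isLocalHom (A := Y.presheaf.stalk y) (B := X.presheaf.stalk x)
  obtain ⟨q, hq⟩ := PrimeSpectrum.comap_surjective_of_faithfullyFlat (A := Y.presheaf.stalk y)
    (B := X.presheaf.stalk x) ⟨primeAt hy, inferInstance⟩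
  obtain ⟨x', h', e⟩ := exists_primeAt_eq x q.asIdeal
  refine ⟨x', h', eq_of_primeAt_eq hy ((h'.map f.continuous).trans h) ?_⟩
  rw [← comap_primeAt f h' ((h'.map f.continuous).trans h) h rfl, e]
  exact congrArg PrimeSpectrum.asIdeal hq

theorem span_eq_of_σ {x : X} {y : Y} (hx : f x = y) (h : f x ⤳ y) {a a' : Y.presheaf.stalk y}
    (he : Ideal.span {σ f x h a} = Ideal.span {σ f x h a'}) : Ideal.span {a} = Ideal.span {a'} := by
  letI := (σ f x h).toAlgebra
  haveI : IsLocalHom (algebraMap (Y.presheaf.stalk y) (X.presheaf.stalk x)) := isLocalHom_σ f hx h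
  haveI : Module.Flat (Y.presheaf.stalk y) (X.presheaf.stalk x) :=
    RingHom.flat_algebraMap_iff.1 (σ_flat f hx h)
  haveI := Module.FaithfullyFlat.of_flat_of_isLocalHom (A := Y.presheaf.stalk y) (B := X.presheaf.stalk x)
  exact span_eq_of_map_eq (B := X.presheaf.stalk x) he

theorem span_sp_eq {x : X} {y' y : Y} (hy : y' ⤳ y) (hx : f x = y) {h : f x ⤳ y}
    {a : Y.presheaf.stalk y} (ha : Gen f J x h a) {a' : Y.presheaf.stalk y'} (ha' : IsDesc f J y' a') :
    Ideal.span {sp hy a} = Ideal.span {a'} := by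
  obtain ⟨x', hx', he⟩ := exists_over f hy hx
  have h' : f x' ⤳ y' := he ▸ specializes_rfl
  refine span_eq_of_σ f he h' ?_
  rw [ha.mono f J hx' hy h', ha'.2 x' h' he]

theorem nzd_of_span_eq {R : Type u} [CommRing R] {a b : R} (ha : a ∈ nonZeroDivisors R)
    (h : Ideal.span {b} = Ideal.span {a}) : b ∈ nonZeroDivisors R := by
  obtain ⟨c, hc⟩ := Ideal.mem_span_singleton'.1 (h.ge (Ideal.mem_span_singleton_self a))
  rw [← hc] at ha
  exact (mul_mem_nonZeroDivisors.1 ha).2

/-- A generator at one point over `y` works at all points, given one exists. -/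
theorem isDesc_of_gen {x : X} {y : Y} (hx : f x = y) {h : f x ⤳ y} {a a₀ : Y.presheaf.stalk y}
    (h₀ : IsDesc f J y a₀) (ha : Gen f J x h a) : IsDesc f J y a := by
  have he : Ideal.span {a} = Ideal.span {a₀} := span_eq_of_σ f hx h (ha.trans (h₀.2 x h hx).symm)
  refine ⟨nzd_of_span_eq h₀.1 he, fun x' h' hx' => ?_⟩
  have := congrArg (Ideal.map (σ f x' h')) he
  rw [Ideal.map_span, Ideal.map_span, Set.image_singleton, Set.image_singleton] at this
  exact this.trans (h₀.2 x' h' hx')

theorem IsDesc.sp {y' y : Y} (hy : y' ⤳ y) [Surjective f] {a : Y.presheaf.stalk y}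
    (ha : IsDesc f J y a) {a' : Y.presheaf.stalk y'} (ha' : IsDesc f J y' a') :
    Ideal.span {DivDesc12.sp hy a} = Ideal.span {a'} := by
  obtain ⟨x, hx⟩ := f.surjective y
  exact span_sp_eq f J hy hx (ha.2 x (hx ▸ specializes_rfl) hx) ha'

/-- Descent at a point of depth at least two, given descent at its strict generalizations. -/
theorem exists_isDesc_step [IsLocallyNoetherian Y] [Surjective f] (hJ : BlowUp.IsEffCartierIdeal J)
    (y : Y) (hy : HasRegPair (Y.presheaf.stalk y))
    (ih : ∀ y' : Y, y' ⤳ y → y' ≠ y → ∃ a, IsDesc f J y' a) :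
    ∃ a, IsDesc f J y a := by
  have step : ∀ (x : X) (hx : f x = y) (h : f x ⤳ y),
      ∃ a ∈ nonZeroDivisors (Y.presheaf.stalk y), Gen f J x h a := by
    intro x hx h
    obtain ⟨g, hg, hgJ⟩ := exists_gen_regular J hJ x
    letI := (σ f x h).toAlgebra
    haveI : IsLocalHom (algebraMap (Y.presheaf.stalk y) (X.presheaf.stalk x)) := isLocalHom_σ f hx h
    haveI : Module.Flat (Y.presheaf.stalk y) (X.presheaf.stalk x) :=
      RingHom.flat_algebraMap_iff.1 (σ_flat f hx h)
    haveI := Module.FaithfullyFlat.of_flat_of_isLocalHom (A := Y.presheaf.stalk y) (B := X.presheaf.stalk x)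
    obtain ⟨a, ha, hag⟩ := exists_generator (A := Y.presheaf.stalk y) (B := X.presheaf.stalk x) hy hg
      (fun q hq hqm => by
        obtain ⟨x', h', rfl⟩ := exists_primeAt_eq x q
        have hy' : f x' ⤳ y := (h'.map f.continuous).trans h
        have hcp : (primeAt h').comap (σ f x h) = primeAt hy' := comap_primeAt f h' hy' h rfl
        have hne : f x' ≠ y := fun e => hqm (hcp.trans (by
          show primeAt hy' = _
          refine Eq.trans ?_ (primeAt_self y specializes_rfl)
          congr 1))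
        obtain ⟨a', ha'⟩ := ih _ hy' hne
        obtain ⟨z, b, hz, hzb⟩ := exists_fraction hy' a'
        have hspan : Ideal.span {sp hy' b} = Ideal.span {a'} := by
          rw [← hzb, Ideal.span_singleton_mul_left_unit hz]
        let C : Ideal (X.presheaf.stalk x) := (Ideal.span {g}).colon {σ f x h b}
        let S : Submonoid (X.presheaf.stalk x) := (primeAt hy').primeCompl.map (σ f x h)
        have hnd : ¬ Disjoint (C : Set (X.presheaf.stalk x)) S := by
          intro hd
          obtain ⟨q₂, hq₂, hCq, hqS⟩ := Ideal.exists_le_prime_disjoint C S hd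
          haveI := hq₂
          obtain ⟨x₂, h₂, rfl⟩ := exists_primeAt_eq x q₂
          have hy₂ : f x₂ ⤳ y := (h₂.map f.continuous).trans h
          have hle : primeAt hy₂ ≤ primeAt hy' := by
            intro c hc
            by_contra hn
            refine Set.disjoint_left.1 hqS ?_ (⟨c, hn, rfl⟩ : σ f x h c ∈ S)
            rw [← comap_primeAt f h₂ hy₂ h rfl] at hc
            exact hc
          have hs : f x₂ ⤳ f x' := specializes_of_primeAt_le hy' hy₂ hle
          have hne₂ : f x₂ ≠ y := fun e => hne (hy'.antisymm (e ▸ hs)).eq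
          obtain ⟨a₂, ha₂⟩ := ih _ hy₂ hne₂
          have e2 : Ideal.span {sp hy₂ b} = Ideal.span {a₂} := by
            rw [← ha'.sp f J hs ha₂, ← sp_comp hs hy']
            have := congrArg (Ideal.map (sp hs)) hspan
            rw [Ideal.map_span, Ideal.map_span, Set.image_singleton, Set.image_singleton] at this
            exact this
          have e3 : sp h₂ (σ f x h b) ∈ (Ideal.span {g}).map (sp h₂) := by
            rw [← hgJ, stI_sp, ← ha₂.2 x₂ specializes_rfl rfl, ← σ_sp f h₂ hy₂ h specializes_rfl]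
            have := congrArg (Ideal.map (σ f x₂ (specializes_rfl : f x₂ ⤳ f x₂))) e2
            rw [Ideal.map_span, Ideal.map_span, Set.image_singleton, Set.image_singleton] at this
            exact this.le (Ideal.mem_span_singleton_self _)
          obtain ⟨w, hw, hw'⟩ := exists_mul_mem h₂ _ _ e3
          exact (mem_primeAt h₂).1 (hCq (Submodule.mem_colon_singleton.2 hw')) hw
        obtain ⟨c, hcC, s, hs, rfl⟩ := Set.not_disjoint_iff.1 hnd
        have hsb : σ f x h (s * b) ∈ Ideal.span {g} := by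
          rw [map_mul]; exact Submodule.mem_colon_singleton.1 hcC
        have hsu : IsUnit (sp hy' s) := not_not.1 fun hn => hs ((mem_primeAt hy').2 hn)
        have hspan' : Ideal.span {sp hy' (s * b)} = Ideal.span {a'} := by
          rw [map_mul, Ideal.span_singleton_mul_left_unit hsu, hspan]
        have hg' : sp h' g ∈ (((Ideal.span {g}).comap (σ f x h)).map (σ f x h)).map (sp h') := by
          have h1 : sp h' g ∈ stI J x' := by
            rw [← stI_sp J h', hgJ]
            exact Ideal.mem_map_of_mem _ (Ideal.mem_span_singleton_self g)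
          rw [← ha'.2 x' specializes_rfl rfl] at h1
          have := congrArg (Ideal.map (σ f x' (specializes_rfl : f x' ⤳ f x'))) hspan'
          rw [Ideal.map_span, Ideal.map_span, Set.image_singleton, Set.image_singleton,
            σ_sp f h' hy' h specializes_rfl] at this
          rw [← this] at h1
          refine (Ideal.span_singleton_le_iff_mem _).2 ?_ h1
          exact Ideal.mem_map_of_mem _ (Ideal.mem_map_of_mem _ hsb)
        obtain ⟨w, hw, hw'⟩ := exists_mul_mem h' _ g hg'
        exact ⟨w, fun hm => (mem_primeAt h').1 hm hw, hw'⟩)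
    exact ⟨a, ha, hag.trans hgJ.symm⟩
  obtain ⟨x₀, hx₀⟩ := f.surjective y
  obtain ⟨a, ha, hga⟩ := step x₀ hx₀ (hx₀ ▸ specializes_rfl)
  refine ⟨a, ha, fun x h hx => ?_⟩
  obtain ⟨b, hb, hgb⟩ := step x hx h
  have key : ∀ (x₁ : X) (h₁ : f x₁ ⤳ y) (a₁ : Y.presheaf.stalk y) (x₂ : X) (h₂ : f x₂ ⤳ y)
      (a₂ : Y.presheaf.stalk y), f x₁ = y → f x₂ = y → Gen f J x₁ h₁ a₁ → Gen f J x₂ h₂ a₂ →
      σ f x₁ h₁ a₂ ∈ Ideal.span {σ f x₁ h₁ a₁} := by
    intro x₁ h₁ a₁ x₂ h₂ a₂ e₁ e₂ g₁ g₂
    obtain ⟨g, hg, hgJ⟩ := exists_gen_regular J hJ x₁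
    rw [show Ideal.span {σ f x₁ h₁ a₁} = stI J x₁ from g₁, hgJ]
    letI := (σ f x₁ h₁).toAlgebra
    haveI : Module.Flat (Y.presheaf.stalk y) (X.presheaf.stalk x₁) :=
      RingHom.flat_algebraMap_iff.1 (σ_flat f e₁ h₁)
    let C : Ideal (X.presheaf.stalk x₁) := (Ideal.span {g}).colon {σ f x₁ h₁ a₂}
    have hrad : (maximalIdeal (Y.presheaf.stalk y)).map (σ f x₁ h₁) ≤ C.radical := by
      rw [Ideal.map_le_iff_le_comap]
      intro r hr
      rw [Ideal.mem_comap, Ideal.radical_eq_sInf, Submodule.mem_sInf]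
      rintro q ⟨hCq, hq⟩
      by_contra hrq
      haveI := hq
      obtain ⟨x', h', rfl⟩ := exists_primeAt_eq x₁ q
      have hy' : f x' ⤳ y := (h'.map f.continuous).trans h₁
      have hcp : (primeAt h').comap (σ f x₁ h₁) = primeAt hy' := comap_primeAt f h' hy' h₁ rfl
      have hne : f x' ≠ y := fun e => hrq (by
        show r ∈ (primeAt h').comap (σ f x₁ h₁)
        rw [hcp]
        have : primeAt hy' = maximalIdeal (Y.presheaf.stalk y) := by
          refine Eq.trans ?_ (primeAt_self y specializes_rfl)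
          congr 1
        rw [this]; exact hr)
      obtain ⟨a', ha'⟩ := ih _ hy' hne
      have e3 : sp h' (σ f x₁ h₁ a₂) ∈ (Ideal.span {g}).map (sp h') := by
        rw [← hgJ, stI_sp, ← ha'.2 x' specializes_rfl rfl, ← σ_sp f h' hy' h₁ specializes_rfl]
        have := congrArg (Ideal.map (σ f x' (specializes_rfl : f x' ⤳ f x'))) (span_sp_eq f J hy' e₂ g₂ ha')
        rw [Ideal.map_span, Ideal.map_span, Set.image_singleton, Set.image_singleton] at this
        exact this.le (Ideal.mem_span_singleton_self _)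
      obtain ⟨w, hw, hw'⟩ := exists_mul_mem h' _ _ e3
      exact (mem_primeAt h').1 (hCq (Submodule.mem_colon_singleton.2 hw')) hw
    obtain ⟨n, hn⟩ := Ideal.exists_pow_le_of_le_radical_of_fg hrad (Ideal.FG.map (IsNoetherian.noetherian _) _)
    exact mem_span_of_pow_mul_mem hy hg n _ fun z hz => Submodule.mem_colon_singleton.1 (hn hz)
  have k1 := key x h b x₀ _ a hx hx₀ hgb hga
  have k2 := key x₀ _ a x h b hx₀ hx hga hgb
  have hba : b ∈ Ideal.span {a} := by
    letI := (σ f x₀ (hx₀ ▸ specializes_rfl : f x₀ ⤳ y)).toAlgebra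
    haveI : IsLocalHom (algebraMap (Y.presheaf.stalk y) (X.presheaf.stalk x₀)) := isLocalHom_σ f hx₀ _
    haveI : Module.Flat (Y.presheaf.stalk y) (X.presheaf.stalk x₀) :=
      RingHom.flat_algebraMap_iff.1 (σ_flat f hx₀ _)
    haveI := Module.FaithfullyFlat.of_flat_of_isLocalHom (A := Y.presheaf.stalk y) (B := X.presheaf.stalk x₀)
    rw [← Ideal.comap_map_eq_self_of_faithfullyFlat (B := X.presheaf.stalk x₀) (Ideal.span {a}),
      Ideal.map_span, Set.image_singleton]
    exact k2
  refine le_antisymm ?_ ?_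
  · rw [Ideal.span_singleton_le_iff_mem, ← hgb]; exact k1
  · rw [← hgb, Ideal.span_singleton_le_iff_mem]
    obtain ⟨c, hc⟩ := Ideal.mem_span_singleton'.1 hba
    exact Ideal.mem_span_singleton'.2 ⟨σ f x h c, by rw [← map_mul, hc]⟩

theorem exists_isDesc [IsLocallyNoetherian Y] [Surjective f] (hJ : BlowUp.IsEffCartierIdeal J)
    (hyp : ∀ y : Y, HasRegPair (Y.presheaf.stalk y) ∨ ∃ a, IsDesc f J y a) (y : Y) :
    ∃ a, IsDesc f J y a :=
  (InvImage.wf (fun y : Y => ringKrullDim (Y.presheaf.stalk y)) wellFounded_lt).induction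
    (C := fun y => ∃ a, IsDesc f J y a) y fun y ih => (hyp y).elim
      (fun hp => exists_isDesc_step f J hJ y hp fun y' h hne => ih y' (ringKrullDim_stalk_lt h hne)) id

end Groth.Agent.DivDesc12
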