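import Groth.Agent.Lib.DivDesc12.Point
import Groth.Prelude.Def_Pi1
import Mathlib.AlgebraicGeometry.FunctionField
import Mathlib.RingTheory.DiscreteValuationRing.TFAE
import Mathlib.RingTheory.Ideal.AssociatedPrime.Localization

/-!
# Descent of effective Cartier divisors over points of codimension one of a normal base
-/

universe u

set_option linter.style.haveILetI false
set_option backward.isDefEq.respectTransparency false

open CategoryTheory Limits AlgebraicGeometry TopologicalSpace IsLocalRing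

namespace Groth.Agent.DivDesc12

variable {B : Type u} [CommRing B]

theorem le_zero_of_lt_one {a : WithBot ℕ∞} (h : a < 1) : a ≤ 0 := by
  induction a using WithBot.recBotCoe with
  | bot => exact bot_le
  | coe a =>
    have : a < 1 := WithBot.coe_lt_coe.1 h
    exact WithBot.coe_le_coe.2 (Order.lt_one_iff.1 this).le

theorem exists_span_eq_pow_of_prime {τ : B} (hp : (Ideal.span {τ}).IsPrime) (hτ : τ ∈ nonZeroDivisors B) :
    ∀ (N : ℕ) (g h : B), g * h = τ ^ N → ∃ m : ℕ, Ideal.span {g} = Ideal.span {τ ^ m}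
  | 0, g, h, e => ⟨0, by
      rw [pow_zero] at e ⊢
      rw [Ideal.span_singleton_one, Ideal.span_singleton_eq_top]
      exact IsUnit.of_mul_eq_one h e⟩
  | N + 1, g, h, e => by
      have : g * h ∈ Ideal.span {τ} := by
        rw [e, pow_succ]; exact Ideal.mul_mem_left _ _ (Ideal.mem_span_singleton_self τ)
      rcases hp.mem_or_mem this with hg | hh
      · obtain ⟨g', rfl⟩ := Ideal.mem_span_singleton'.1 hg
        obtain ⟨m, hm⟩ := exists_span_eq_pow_of_prime hp hτ N g' h
          ((mul_cancel_right_mem_nonZeroDivisors hτ).1 (by rw [← pow_succ, ← e]; ring))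
        exact ⟨m + 1, by rw [pow_succ, ← Ideal.span_singleton_mul_span_singleton, hm,
          Ideal.span_singleton_mul_span_singleton]⟩
      · obtain ⟨h', rfl⟩ := Ideal.mem_span_singleton'.1 hh
        exact exists_span_eq_pow_of_prime hp hτ N g h'
          ((mul_cancel_right_mem_nonZeroDivisors hτ).1 (by rw [← pow_succ, ← e]; ring))

/-- If `g` and `τ ^ n` agree at the associated primes of `B/τB`, they generate the same ideal. -/
theorem span_eq_pow_of_associated [IsNoetherianRing B] [IsLocalRing B] {τ : B} (hτ : τ ∈ nonZeroDivisors B)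
    (hτm : τ ∈ maximalIdeal B) {g h : B} {N n : ℕ} (e : g * h = τ ^ N)
    (hq : ∀ q : Ideal B, IsAssociatedPrime q (B ⧸ Ideal.span {τ}) →
      (∃ w, w ∉ q ∧ w * g ∈ Ideal.span {τ ^ n}) ∧ ∃ w, w ∉ q ∧ w * τ ^ n ∈ Ideal.span {g}) :
    Ideal.span {g} = Ideal.span {τ ^ n} := by
  have avoid : ∀ b : B, (∀ q : Ideal B, IsAssociatedPrime q (B ⧸ Ideal.span {τ}) →
      ∃ w, w ∉ q ∧ w * b ∈ Ideal.span {τ}) → b ∈ Ideal.span {τ} := by
    intro b hb
    by_contra hn
    obtain ⟨P, hP, hle⟩ := exists_le_isAssociatedPrime_of_isNoetherianRing (R := B)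
      (Ideal.Quotient.mk (Ideal.span {τ}) b) (fun h0 => hn (Ideal.Quotient.eq_zero_iff_mem.1 h0))
    obtain ⟨w, hw, hwb⟩ := hb P hP
    refine hw (hle (Submodule.mem_colon_singleton.2 ((Submodule.mem_bot _).2 ?_)))
    rw [Algebra.smul_def, Ideal.Quotient.algebraMap_eq, ← map_mul]
    exact Ideal.Quotient.eq_zero_iff_mem.2 hwb
  have hdiv : ∀ k ≤ n, g ∈ Ideal.span {τ ^ k} := by
    intro k hk
    induction k with
    | zero => simp
    | succ k ih =>
      obtain ⟨g', hg'⟩ := Ideal.mem_span_singleton'.1 (ih (Nat.le_of_succ_le hk))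
      obtain ⟨c, hc⟩ := Ideal.mem_span_singleton'.1 (avoid g' fun q hqA => by
        obtain ⟨w, hw, hw'⟩ := (hq q hqA).1
        obtain ⟨c, hc⟩ := Ideal.mem_span_singleton'.1 hw'
        refine ⟨w, hw, Ideal.mem_span_singleton'.2 ⟨c * τ ^ (n - k - 1),
          (mul_cancel_right_mem_nonZeroDivisors (pow_mem hτ k)).1 ?_⟩⟩
        rw [mul_assoc w, hg', ← hc]
        calc c * τ ^ (n - k - 1) * τ * τ ^ k = c * τ ^ ((n - k - 1) + 1 + k) := by ring
          _ = c * τ ^ n := by congr 2; omega)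
      exact Ideal.mem_span_singleton'.2 ⟨c, by rw [← hg', ← hc]; ring⟩
  obtain ⟨g', hg'⟩ := Ideal.mem_span_singleton'.1 (hdiv n le_rfl)
  have hreg : ∀ b, g' * b ∈ Ideal.span {τ} → b ∈ Ideal.span {τ} := fun b hb => avoid b fun q hqA => by
    obtain ⟨w, hw, hw'⟩ := (hq q hqA).2
    obtain ⟨c, hc⟩ := Ideal.mem_span_singleton'.1 hw'
    have hwg : c * g' = w := (mul_cancel_right_mem_nonZeroDivisors (pow_mem hτ n)).1 (by
      rw [mul_assoc, hg', hc])
    refine ⟨w, hw, ?_⟩
    rw [← hwg, mul_assoc]; exact Ideal.mul_mem_left _ _ hb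
  have hu : IsUnit g' := by
    have key : ∀ (M : ℕ) (h : B), g' * h = τ ^ M → IsUnit g' := by
      intro M
      induction M with
      | zero => intro h e; exact IsUnit.of_mul_eq_one h (by rwa [pow_zero] at e)
      | succ M ih =>
        intro h e
        obtain ⟨h', rfl⟩ := Ideal.mem_span_singleton'.1 (hreg h (by
          rw [e, pow_succ]; exact Ideal.mul_mem_left _ _ (Ideal.mem_span_singleton_self τ)))
        exact ih h' ((mul_cancel_right_mem_nonZeroDivisors hτ).1 (by rw [← pow_succ, ← e]; ring))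
    by_cases hNn : n ≤ N
    · refine key (N - n) h ((mul_cancel_right_mem_nonZeroDivisors (pow_mem hτ n)).1 ?_)
      rw [← pow_add, Nat.sub_add_cancel hNn, ← e, ← hg']; ring
    · exfalso
      push Not at hNn
      have h1 : g' * h * τ ^ (n - N) = 1 := (mul_cancel_right_mem_nonZeroDivisors (pow_mem hτ N)).1 (by
        rw [one_mul, mul_assoc, ← pow_add, Nat.sub_add_cancel hNn.le]
        conv_rhs => rw [← e, ← hg']
        ring)
      have h2 : IsUnit (τ ^ (n - N)) := IsUnit.of_mul_eq_one (g' * h) (by rw [mul_comm]; exact h1)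
      exact hτm ((isUnit_pow_iff (by omega)).1 h2)
  rw [← hg', Ideal.span_singleton_mul_left_unit hu]

variable {X Y : Scheme.{u}} (f : X ⟶ Y) (J : X.IdealSheafData)

/-- A uniformizer at a point of codimension one of a normal scheme. -/
theorem exists_uniformizer [IsLocallyNoetherian Y] (hY : Pi1.IsNormalScheme Y) {y : Y}
    (hd : ringKrullDim (Y.presheaf.stalk y) = 1) :
    ∃ t : Y.presheaf.stalk y, t ∈ nonZeroDivisors (Y.presheaf.stalk y) ∧
      maximalIdeal (Y.presheaf.stalk y) = Ideal.span {t} ∧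
      ∀ a ∈ nonZeroDivisors (Y.presheaf.stalk y), ∃ n : ℕ, Ideal.span {a} = Ideal.span {t ^ n} := by
  haveI := (hY y).1
  haveI := (hY y).2
  have hnf : ¬ IsField (Y.presheaf.stalk y) := fun hf => by
    rw [ringKrullDim_eq_zero_of_isField hf] at hd; exact zero_ne_one hd
  have hdim : Ring.KrullDimLE 1 (Y.presheaf.stalk y) := ⟨by
    show Order.krullDim _ ≤ _
    exact hd.le⟩
  haveI := hdim
  haveI : IsDiscreteValuationRing (Y.presheaf.stalk y) :=
    ((IsDiscreteValuationRing.TFAE (Y.presheaf.stalk y) hnf).out 0 3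
      (b := IsIntegrallyClosed (Y.presheaf.stalk y) ∧
        ∃! P : Ideal (Y.presheaf.stalk y), P ≠ ⊥ ∧ P.IsPrime)).2 ⟨inferInstance,
      ⟨maximalIdeal _, ⟨fun h => hnf (isField_iff_maximalIdeal_eq.2 h), inferInstance⟩,
        fun P hP => eq_maximalIdeal (Ideal.IsPrime.isMaximal_of_ne_bot hP.2 hP.1)⟩⟩
  obtain ⟨t, ht⟩ := IsDiscreteValuationRing.exists_irreducible (Y.presheaf.stalk y)
  refine ⟨t, mem_nonZeroDivisors_of_ne_zero ht.ne_zero, ht.maximalIdeal_eq, fun a ha => ?_⟩
  obtain ⟨n, hn⟩ := IsDiscreteValuationRing.ideal_eq_span_pow_irreducible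
    (s := Ideal.span {a}) (fun h => nonZeroDivisors.ne_zero ha (Ideal.span_singleton_eq_bot.1 h)) ht
  exact ⟨n, hn⟩

theorem σ_nzd [Flat f] {x : X} {y : Y} (hx : f x = y) (h : f x ⤳ y) {a : Y.presheaf.stalk y}
    (ha : a ∈ nonZeroDivisors (Y.presheaf.stalk y)) : σ f x h a ∈ nonZeroDivisors (X.presheaf.stalk x) := by
  letI := (σ f x h).toAlgebra
  haveI : Module.Flat (Y.presheaf.stalk y) (X.presheaf.stalk x) :=
    RingHom.flat_algebraMap_iff.1 (σ_flat f hx h)
  have h1 : RingTheory.Sequence.IsWeaklyRegular (Y.presheaf.stalk y) [a] := by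
    simp only [RingTheory.Sequence.isWeaklyRegular_cons_iff]
    refine ⟨IsSMulRegular.of_right_eq_zero_of_smul fun x hx => ?_, RingTheory.Sequence.IsWeaklyRegular.nil _ _⟩
    exact (mul_left_mem_nonZeroDivisors_eq_zero_iff ha).1 (by rwa [smul_eq_mul] at hx)
  have h2 := h1.of_flat (S := X.presheaf.stalk x)
  simp only [List.map_cons, List.map_nil, RingTheory.Sequence.isWeaklyRegular_cons_iff] at h2
  refine mem_nonZeroDivisors_iff_right.2 fun z hz => h2.1.right_eq_zero_of_smul ?_
  rw [smul_eq_mul, mul_comm]; exact hz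

theorem σ_mem_maximalIdeal {x : X} {y : Y} (hx : f x = y) (h : f x ⤳ y) {a : Y.presheaf.stalk y}
    (ha : a ∈ maximalIdeal (Y.presheaf.stalk y)) : σ f x h a ∈ maximalIdeal (X.presheaf.stalk x) := by
  haveI := isLocalHom_σ f hx h
  exact fun hu => ha (isUnit_of_map_unit _ _ hu)

/-- Near the fibre, the divisor is killed by a power of the uniformizer. -/
theorem exists_mul_eq_pow [IsLocallyNoetherian Y] {y : Y}
    (hd : ringKrullDim (Y.presheaf.stalk y) ≤ 1) {t : Y.presheaf.stalk y}
    (ht : maximalIdeal (Y.presheaf.stalk y) = Ideal.span {t})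
    (htriv : ∀ η : Y, (∀ z : Y, z ⤳ η → z = η) → J.comap (f.fiberι η) = ⊤)
    {x : X} (hx : f x = y) (h : f x ⤳ y) {g : X.presheaf.stalk x} (hg : stI J x = Ideal.span {g}) :
    ∃ (N : ℕ) (c : X.presheaf.stalk x), g * c = σ f x h t ^ N := by
  have hrad : σ f x h t ∈ (Ideal.span {g}).radical := by
    rw [Ideal.radical_eq_sInf, Submodule.mem_sInf]
    rintro q ⟨hgq, hq⟩
    by_contra hn
    haveI := hq
    obtain ⟨x', h', rfl⟩ := exists_primeAt_eq x q
    have hy' : f x' ⤳ y := (h'.map f.continuous).trans h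
    have hne : f x' ≠ y := fun e => hn (by
      have e1 : (primeAt h').comap (σ f x h) = maximalIdeal _ := by
        rw [comap_primeAt f h' hy' h rfl]
        refine Eq.trans ?_ (primeAt_self y specializes_rfl)
        congr 1
      have : t ∈ (primeAt h').comap (σ f x h) := by rw [e1, ht]; exact Ideal.mem_span_singleton_self t
      exact this)
    have hmax : ∀ z : Y, z ⤳ f x' → z = f x' := eq_of_specializes_of_dim_le_zero
      (le_zero_of_lt_one ((ringKrullDim_stalk_lt hy' hne).trans_le hd))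
    have htop := (comap_fiberι_eq_top_iff f J (f x')).1 (htriv _ hmax) x' rfl
    rw [← stI_sp J h', hg, Ideal.map_span, Set.image_singleton, Ideal.span_singleton_eq_top] at htop
    exact (mem_primeAt h').1 (hgq (Ideal.mem_span_singleton_self g)) htop
  obtain ⟨N, hN⟩ := hrad
  obtain ⟨c, hc⟩ := Ideal.mem_span_singleton'.1 hN
  exact ⟨N, c, by rw [mul_comm, hc]⟩

theorem stalkMap_fiberι_surjective (y : Y) (z : f.fiber y) :
    Function.Surjective ((f.fiberι y).stalkMap z) :=
  (f.fiberι y).stalkMap_surjective z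

theorem ker_stalkMap_fiberι {y : Y} (z : f.fiber y) (hx : f (f.fiberι y z) = y)
    (h : f (f.fiberι y z) ⤳ y) {t : Y.presheaf.stalk y}
    (ht : maximalIdeal (Y.presheaf.stalk y) = Ideal.span {t}) (b : X.presheaf.stalk (f.fiberι y z)) :
    (f.fiberι y).stalkMap z b = 0 ↔ b ∈ Ideal.span {σ f (f.fiberι y z) h t} := by
  rw [stalkMap_fiberι_eq_zero_iff f _ hx h z rfl b, ht, Ideal.map_span, Set.image_singleton]

/-- Integral fibre: an equation at every point above a point of codimension one. -/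
theorem exists_isDesc_of_integral_fiber [Flat f] [Surjective f] [IsLocallyNoetherian Y]
    (hY : Pi1.IsNormalScheme Y) (hJ : BlowUp.IsEffCartierIdeal J) {y : Y}
    (hd : ringKrullDim (Y.presheaf.stalk y) = 1) [IsIntegral (f.fiber y)]
    (htriv : ∀ η : Y, (∀ z : Y, z ⤳ η → z = η) → J.comap (f.fiberι η) = ⊤) :
    ∃ a, IsDesc f J y a := by
  obtain ⟨t, htn, ht, -⟩ := exists_uniformizer hY hd
  have step : ∀ x, ∀ (hx : f x = y) (h : f x ⤳ y), ∃ m : ℕ, Gen f J x h (t ^ m) := by
    intro x hx h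
    obtain ⟨z, rfl⟩ := (f.range_fiberι y).symm.le hx
    obtain ⟨g, -, hgJ⟩ := exists_gen_regular J hJ (f.fiberι y z)
    obtain ⟨N, c, hc⟩ := exists_mul_eq_pow f J hd.le ht htriv hx h hgJ
    have hker : RingHom.ker ((f.fiberι y).stalkMap z).hom = Ideal.span {σ f (f.fiberι y z) h t} := by
      ext b; rw [RingHom.mem_ker]; exact ker_stalkMap_fiberι f z hx h ht b
    have hp : (Ideal.span {σ f (f.fiberι y z) h t}).IsPrime := hker ▸ RingHom.ker_isPrime _
    obtain ⟨m, hm⟩ := exists_span_eq_pow_of_prime hp (σ_nzd f hx h htn) N g c hc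
    exact ⟨m, by rw [Gen, map_pow, hgJ, hm]⟩
  let ξ := f.fiberι y (genericPoint (f.fiber y))
  have hξ : f ξ = y := (f.range_fiberι y).le ⟨_, rfl⟩
  obtain ⟨m₀, hm₀⟩ := step ξ hξ (specializes_of_eq hξ)
  refine ⟨t ^ m₀, pow_mem htn _, fun x h hx => ?_⟩
  obtain ⟨z, rfl⟩ := (f.range_fiberι y).symm.le hx
  obtain ⟨m, hm⟩ := step _ hx h
  have hsp : ξ ⤳ f.fiberι y z := (genericPoint_specializes z).map (f.fiberι y).continuous
  have h2 := hm.mono f J hsp specializes_rfl (specializes_of_eq hξ)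
  rw [sp_self] at h2
  have hspan := span_eq_of_σ f hξ (specializes_of_eq hξ) (h2.trans hm₀.symm)
  have := congrArg (Ideal.map (σ f (f.fiberι y z) h)) hspan
  rw [Ideal.map_span, Ideal.map_span, Set.image_singleton, Set.image_singleton] at this
  exact this.symm.trans hm

theorem map_sp_primeAt {x' x : X} (h : x' ⤳ x) :
    (primeAt h).map (sp h) = maximalIdeal (X.presheaf.stalk x') := by
  refine le_antisymm (Ideal.map_le_iff_le_comap.2 le_rfl) fun e he => ?_
  obtain ⟨z, b, hz, hzb⟩ := exists_fraction h e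
  have hb : b ∈ primeAt h := by
    show sp h b ∈ maximalIdeal _
    rw [← hzb]; exact Ideal.mul_mem_left _ _ he
  have := Ideal.mem_map_of_mem (sp h) hb
  rw [← hzb] at this
  exact ((primeAt h).map (sp h)).unit_mul_mem_iff_mem hz |>.1 this

theorem isAssociated_fiber [IsLocallyNoetherian X] {y : Y} {t : Y.presheaf.stalk y}
    (ht : maximalIdeal (Y.presheaf.stalk y) = Ideal.span {t}) {x : X} (h : f x ⤳ y)
    {x' : X} (h' : x' ⤳ x) (z' : f.fiber y) (hz' : f.fiberι y z' = x') (hx' : f x' = y)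
    (hA : IsAssociatedPrime (primeAt h') (X.presheaf.stalk x ⧸ Ideal.span {σ f x h t})) :
    IsAssociatedPrime (maximalIdeal ((f.fiber y).presheaf.stalk z')) ((f.fiber y).presheaf.stalk z') := by
  subst hz'
  obtain ⟨hp, e, he⟩ := isAssociatedPrime_iff.1 hA
  obtain ⟨c, rfl⟩ := Ideal.Quotient.mk_surjective e
  have hmem : ∀ w, w ∈ primeAt h' ↔ w * c ∈ Ideal.span {σ f x h t} := fun w => by
    rw [he, Submodule.mem_colon_singleton, Submodule.mem_bot, Algebra.smul_def, Ideal.Quotient.algebraMap_eq,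
      ← map_mul, Ideal.Quotient.eq_zero_iff_mem]
  have hh : f (f.fiberι y z') ⤳ y := (h'.map f.continuous).trans h
  let φ := ((f.fiberι y).stalkMap z').hom
  have hsurj : Function.Surjective φ := stalkMap_fiberι_surjective f y z'
  have hker : ∀ b, φ b = 0 ↔ b ∈ Ideal.span {σ f (f.fiberι y z') hh t} :=
    fun b => ker_stalkMap_fiberι f z' hx' hh ht b
  haveI : IsNoetherianRing ((f.fiber y).presheaf.stalk z') := isNoetherianRing_of_surjective _ _ φ hsurj
  have hstI : (Ideal.span {σ f x h t}).map (sp h') = Ideal.span {σ f (f.fiberι y z') hh t} := by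
    rw [Ideal.map_span, Set.image_singleton, ← σ_sp f h' specializes_rfl h hh t, sp_self]
  rw [isAssociated_maximalIdeal_iff (R := X.presheaf.stalk x)]
  refine ⟨φ (sp h' c), fun h0 => ?_, fun d hd => ?_⟩
  · rw [hker, ← hstI] at h0
    obtain ⟨w, hw, hw'⟩ := exists_mul_mem h' _ _ h0
    exact (mem_primeAt h').1 ((hmem w).2 hw') hw
  · obtain ⟨d', rfl⟩ := hsurj d
    have hd' : d' ∈ maximalIdeal _ := fun hu => hd (hu.map φ)
    rw [← map_mul, hker]
    have hle : (primeAt h').map (sp h') ≤ (Ideal.span {σ f (f.fiberι y z') hh t}).colon {sp h' c} := by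
      rw [Ideal.map_le_iff_le_comap]
      intro w hw
      rw [Ideal.mem_comap, Submodule.mem_colon_singleton, smul_eq_mul, ← map_mul, ← hstI]
      exact Ideal.mem_map_of_mem _ ((hmem w).1 hw)
    rw [map_sp_primeAt h'] at hle
    exact Submodule.mem_colon_singleton.1 (hle hd')

/-- Fibres without embedded associated points: an equation above a point of codimension one. -/
theorem exists_isDesc_of_uniform [Flat f] [Surjective f] [IsLocallyNoetherian X] [IsLocallyNoetherian Y]
    (hJ : BlowUp.IsEffCartierIdeal J) {y : Y} (hd : ringKrullDim (Y.presheaf.stalk y) ≤ 1)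
    {t : Y.presheaf.stalk y} (htn : t ∈ nonZeroDivisors (Y.presheaf.stalk y))
    (ht : maximalIdeal (Y.presheaf.stalk y) = Ideal.span {t})
    (hfib : ∀ z z' : f.fiber y,
      IsAssociatedPrime (maximalIdeal ((f.fiber y).presheaf.stalk z)) ((f.fiber y).presheaf.stalk z) →
      IsAssociatedPrime (maximalIdeal ((f.fiber y).presheaf.stalk z')) ((f.fiber y).presheaf.stalk z') →
      z' ⤳ z → z' = z)
    (htriv : ∀ η : Y, (∀ z : Y, z ⤳ η → z = η) → J.comap (f.fiberι η) = ⊤) (n : ℕ)
    (hn : ∀ (x : X) (hx : f x = y), (∀ z, f z = y → z ⤳ x → z = x) →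
      Gen f J x (specializes_of_eq hx) (t ^ n)) :
    IsDesc f J y (t ^ n) := by
  refine ⟨pow_mem htn _, fun x h hx => ?_⟩
  obtain ⟨g, -, hgJ⟩ := exists_gen_regular J hJ x
  obtain ⟨N, c, hc⟩ := exists_mul_eq_pow f J hd ht htriv hx h hgJ
  have hover : ∀ (x' : X) (h' : x' ⤳ x), σ f x h t ∈ primeAt h' → f x' = y := by
    intro x' h' hm
    have hy' : f x' ⤳ y := (h'.map f.continuous).trans h
    refine eq_of_primeAt_eq (specializes_rfl : y ⤳ y) hy' ?_
    rw [primeAt_self]
    refine ((maximalIdeal.isMaximal (Y.presheaf.stalk y)).eq_of_le (Ideal.IsPrime.ne_top inferInstance) ?_).symm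
    rw [← comap_primeAt f h' hy' h rfl, ht, Ideal.span_singleton_le_iff_mem, Ideal.mem_comap]
    exact hm
  have hne : Nontrivial (X.presheaf.stalk x ⧸ Ideal.span {σ f x h t}) := Ideal.Quotient.nontrivial_iff.2 fun e =>
    σ_mem_maximalIdeal f hx h (ht.ge (Ideal.mem_span_singleton_self t)) (Ideal.span_singleton_eq_top.1 e)
  rw [Gen, map_pow, hgJ]
  refine (span_eq_pow_of_associated (σ_nzd f hx h htn)
    (σ_mem_maximalIdeal f hx h (ht.ge (Ideal.mem_span_singleton_self t))) hc fun q hqA => ?_).symm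
  haveI := hqA.isPrime
  obtain ⟨x', h', rfl⟩ := exists_primeAt_eq x q
  have hτq : σ f x h t ∈ primeAt h' := by
    refine IsAssociatedPrime.annihilator_le hqA ?_
    rw [Submodule.annihilator_top, Ideal.annihilator_quotient]
    exact Ideal.mem_span_singleton_self _
  have hx' := hover x' h' hτq
  have hmax : ∀ z, f z = y → z ⤳ x' → z = x' := by
    intro z hz hzx'
    have hzx := hzx'.trans h'
    have hτz : σ f x h t ∈ primeAt hzx := by
      rw [mem_primeAt]
      intro hu
      rw [← σ_sp f hzx specializes_rfl h (specializes_of_eq hz) t, sp_self] at hu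
      exact σ_mem_maximalIdeal f hz (specializes_of_eq hz) (ht.ge (Ideal.mem_span_singleton_self t)) hu
    obtain ⟨p, hp, hple⟩ := Ideal.exists_minimalPrimes_le ((Ideal.span_singleton_le_iff_mem _).2 hτz)
    have hpA : IsAssociatedPrime p (X.presheaf.stalk x ⧸ Ideal.span {σ f x h t}) := by
      refine Module.associatedPrimes.minimalPrimes_annihilator_subset_associatedPrimes _ _ ?_
      rw [Ideal.annihilator_quotient]; exact hp
    haveI := hp.isPrime
    obtain ⟨z₀, h₀, rfl⟩ := exists_primeAt_eq x p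
    have hz₀z : z₀ ⤳ z := specializes_of_primeAt_le hzx h₀ hple
    have hz₀ := hover z₀ h₀ (hp.1.2 (Ideal.mem_span_singleton_self _))
    obtain ⟨w₀, hw₀⟩ := (f.range_fiberι y).symm.le hz₀
    obtain ⟨w', hw'⟩ := (f.range_fiberι y).symm.le hx'
    have hww : w₀ ⤳ w' := by
      rw [← (f.fiberι y).isEmbedding.isInducing.specializes_iff, hw₀, hw']
      exact hz₀z.trans hzx'
    have heq : w₀ = w' := hfib w' w₀ (isAssociated_fiber f ht h h' w' hw' hx' hqA)
      (isAssociated_fiber f ht h h₀ w₀ hw₀ hz₀ hpA) hww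
    have e0 : z₀ = x' := by rw [← hw₀, ← hw', heq]
    exact (hzx'.antisymm (e0 ▸ hz₀z)).eq
  have hg' := hn x' hx' hmax
  have h1 : sp h' g ∈ (Ideal.span {σ f x h t ^ n}).map (sp h') ∧
      sp h' (σ f x h t ^ n) ∈ (Ideal.span {g}).map (sp h') := by
    have e : (Ideal.span {σ f x h t ^ n}).map (sp h') = stI J x' := by
      rw [← hg', Ideal.map_span, Set.image_singleton, ← map_pow (σ f x h),
        ← σ_sp f h' specializes_rfl h (specializes_of_eq hx') (t ^ n), sp_self]
    have e2 : (Ideal.span {g}).map (sp h') = stI J x' := by rw [← hgJ, stI_sp]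
    exact ⟨e ▸ e2 ▸ Ideal.mem_map_of_mem _ (Ideal.mem_span_singleton_self g),
      e2 ▸ e ▸ Ideal.mem_map_of_mem _ (Ideal.mem_span_singleton_self _)⟩
  obtain ⟨w₁, hw₁, hw₁'⟩ := exists_mul_mem h' _ _ h1.1
  obtain ⟨w₂, hw₂, hw₂'⟩ := exists_mul_mem h' _ _ h1.2
  exact ⟨⟨w₁, fun hm => (mem_primeAt h').1 hm hw₁, hw₁'⟩, ⟨w₂, fun hm => (mem_primeAt h').1 hm hw₂, hw₂'⟩⟩

/-- Points of a normal Noetherian scheme: depth at least two or dimension at most one. -/
theorem hasRegPair_or_dim [IsLocallyNoetherian Y] (hY : Pi1.IsNormalScheme Y) (y : Y) :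
    HasRegPair (Y.presheaf.stalk y) ∨ (∀ z : Y, z ⤳ y → z = y) ∨ ringKrullDim (Y.presheaf.stalk y) = 1 := by
  haveI := (hY y).1
  haveI := (hY y).2
  rcases lt_or_ge 1 (ringKrullDim (Y.presheaf.stalk y)) with h | h
  · exact .inl (hasRegPair_of_normal h)
  rcases h.lt_or_eq with h | h
  · exact .inr (.inl (eq_of_specializes_of_dim_le_zero (le_zero_of_lt_one h)))
  · exact .inr (.inr h)

end Groth.Agent.DivDesc12
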