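import Groth.Agent.Lib.DivDesc12.DimOne

/-!
# Descent of effective Cartier divisors: the three criteria
-/

universe u

set_option linter.style.haveILetI false
set_option backward.isDefEq.respectTransparency false

open CategoryTheory Limits AlgebraicGeometry TopologicalSpace IsLocalRing

namespace Groth.Agent.DivDesc12

variable {X Y : Scheme.{u}} [IsLocallyNoetherian Y] (f : X ⟶ Y) [Flat f] [Surjective f]
  (hf : QuasiCompact f ∨ IsOpenMap f) (J : X.IdealSheafData)

include hf in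
theorem descends_iff_depth (hJ : BlowUp.IsEffCartierIdeal J) :
    (∃ 𝓘 : Y.IdealSheafData, BlowUp.IsEffCartierIdeal 𝓘 ∧ 𝓘.comap f = J) ↔
      ∀ y : ↥Y, LocCoh.depth ↑(Y.presheaf.stalk y) ↑(Y.presheaf.stalk y) ≤ 1 →
        ∃ 𝓘₁ : (Spec (Y.presheaf.stalk y)).IdealSheafData, BlowUp.IsEffCartierIdeal 𝓘₁ ∧
          𝓘₁.comap (pullback.snd f (Y.fromSpecStalk y)) = J.comap (pullback.fst f (Y.fromSpecStalk y)) := by
  constructor
  · rintro ⟨I, hI, rfl⟩ y -
    haveI := Descend.flat_fromSpecStalk y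
    refine ⟨I.comap (Y.fromSpecStalk y), isEffCartier_comap _ hI, ?_⟩
    rw [← Scheme.IdealSheafData.comap_comp, ← Scheme.IdealSheafData.comap_comp, pullback.condition]
  · intro h
    refine descends f J hf hJ (exists_isDesc f J hJ fun y => ?_)
    by_cases hp : HasRegPair (Y.presheaf.stalk y)
    · exact .inl hp
    · obtain ⟨I₁, h1, h2⟩ := h y (depth_le_one hp)
      exact .inr (exists_isDesc_of_specStalk f J y h1 h2)

omit [IsLocallyNoetherian Y] [Surjective f] in
theorem triv_of_descends (h : ∃ 𝓘 : Y.IdealSheafData, BlowUp.IsEffCartierIdeal 𝓘 ∧ 𝓘.comap f = J)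
    (η : Y) (hη : ∀ z : Y, z ⤳ η → z = η) : J.comap (f.fiberι η) = ⊤ := by
  obtain ⟨I, hI, hIJ⟩ := h
  obtain ⟨a, ha⟩ := isDesc_of_comap_eq f J hI hIJ η
  exact comap_fiberι_eq_top_of_isDesc f J hη ha

include hf in
theorem descends_iff_trivial (hY : Pi1.IsNormalScheme Y)
    (hfib : ∀ y : ↥Y, ringKrullDim ↑(Y.presheaf.stalk y) = 1 → IsIntegral (f.fiber y))
    (hJ : BlowUp.IsEffCartierIdeal J) :
    (∃ 𝓘 : Y.IdealSheafData, BlowUp.IsEffCartierIdeal 𝓘 ∧ 𝓘.comap f = J) ↔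
      ∀ η : ↥Y, (∀ z : ↥Y, z ⤳ η → z = η) → J.comap (f.fiberι η) = ⊤ := by
  refine ⟨triv_of_descends f J, fun h => descends f J hf hJ (exists_isDesc f J hJ fun y => ?_)⟩
  rcases hasRegPair_or_dim hY y with hp | hmax | hd
  · exact .inl hp
  · exact .inr ⟨1, isDesc_one_of_maximal f J (h y hmax)⟩
  · haveI := hfib y hd
    exact .inr (exists_isDesc_of_integral_fiber f J hY hJ hd h)

omit [IsLocallyNoetherian Y] [Flat f] [Surjective f] in
theorem gen_iff_comap_fromSpecStalk (x : X) {y : Y} (h : f x ⤳ y) (b : Y.presheaf.stalk y) :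
    Gen f J x h b ↔ (J.comap (X.fromSpecStalk x)).ideal ⟨⊤, isAffineOpen_top _⟩ =
      Ideal.span {(Scheme.ΓSpecIso (X.presheaf.stalk x)).inv (σ f x h b)} := by
  obtain ⟨U, hU, hx⟩ := exists_affine x
  have hle : (⊤ : (Spec (X.presheaf.stalk x)).Opens) ≤ X.fromSpecStalk x ⁻¹ᵁ U := by
    rw [Scheme.preimage_eq_top_of_closedPoint_mem]
    rw [Scheme.fromSpecStalk_closedPoint]; exact hx
  have key : (J.comap (X.fromSpecStalk x)).ideal ⟨⊤, isAffineOpen_top _⟩ =
      (stI J x).map (Scheme.ΓSpecIso (X.presheaf.stalk x)).inv.hom := by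
    rw [EffCartier.comap_ideal J _ ⟨U, hU⟩ ⟨⊤, isAffineOpen_top _⟩ hle, stI_eq J ⟨U, hU⟩ hx,
      Ideal.map_map]
    congr 1
    rw [Scheme.Hom.appLE, Scheme.fromSpecStalk_app hx]
    simp only [Category.assoc]
    rw [← Functor.map_comp]
    erw [CategoryTheory.Functor.map_id]
    rfl
  rw [key, Gen]
  constructor
  · intro e
    rw [← e, Ideal.map_span, Set.image_singleton]
  · intro e
    rw [← Set.image_singleton (f := (Scheme.ΓSpecIso (X.presheaf.stalk x)).inv.hom), ← Ideal.map_span] at e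
    have := congrArg (Ideal.map (Scheme.ΓSpecIso (X.presheaf.stalk x)).hom.hom) e
    rw [Ideal.map_map, Ideal.map_map, ← CommRingCat.hom_comp, Iso.inv_hom_id, CommRingCat.hom_id,
      Ideal.map_id, Ideal.map_id] at this
    exact this.symm

omit [IsLocallyNoetherian Y] [Flat f] [Surjective f] in
theorem σ_eq_stalkCongr {x : X} {y : Y} (hx : f x = y) (b : Y.presheaf.stalk y) :
    σ f x (specializes_of_eq hx) b =
      (f.stalkMap x).hom ((Y.presheaf.stalkCongr (.of_eq hx.symm)).hom b) := rfl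

include hf in
theorem descends_iff_uniform [IsLocallyNoetherian X] (hY : Pi1.IsNormalScheme Y)
    (hfib : ∀ y : ↥Y, ringKrullDim ↑(Y.presheaf.stalk y) = 1 → ∀ z z' : ↥(f.fiber y),
      IsAssociatedPrime (IsLocalRing.maximalIdeal ↑((f.fiber y).presheaf.stalk z)) ↑((f.fiber y).presheaf.stalk z) →
      IsAssociatedPrime (IsLocalRing.maximalIdeal ↑((f.fiber y).presheaf.stalk z')) ↑((f.fiber y).presheaf.stalk z') →
      z' ⤳ z → z' = z)
    (hJ : BlowUp.IsEffCartierIdeal J) :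
    (∃ 𝓘 : Y.IdealSheafData, BlowUp.IsEffCartierIdeal 𝓘 ∧ 𝓘.comap f = J) ↔
      ((∀ η : ↥Y, (∀ z : ↥Y, z ⤳ η → z = η) → J.comap (f.fiberι η) = ⊤) ∧
        ∀ y : ↥Y, ringKrullDim ↑(Y.presheaf.stalk y) = 1 → ∃ n : ℕ, ∀ t : ↑(Y.presheaf.stalk y),
          IsLocalRing.maximalIdeal ↑(Y.presheaf.stalk y) = Ideal.span {t} →
          ∀ (x : ↥X) (hx : f x = y), (∀ z : ↥X, f z = y → z ⤳ x → z = x) →
            (J.comap (X.fromSpecStalk x)).ideal ⟨⊤, isAffineOpen_top _⟩ =
              Ideal.span {(Scheme.ΓSpecIso (X.presheaf.stalk x)).inv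
                (((f.stalkMap x).hom ((Y.presheaf.stalkCongr (.of_eq hx.symm)).hom t)) ^ n)}) := by
  constructor
  · intro h
    refine ⟨triv_of_descends f J h, fun y hd => ?_⟩
    obtain ⟨I, hI, hIJ⟩ := h
    obtain ⟨a, ha⟩ := isDesc_of_comap_eq f J hI hIJ y
    obtain ⟨t₀, -, ht₀, hpow⟩ := exists_uniformizer hY hd
    obtain ⟨n, hn⟩ := hpow a ha.1
    refine ⟨n, fun t ht x hx _ => ?_⟩
    have hsp : Ideal.span {t ^ n} = Ideal.span {a} := by
      rw [hn, ← Ideal.span_singleton_pow, ← Ideal.span_singleton_pow, ← ht, ht₀]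
    rw [← σ_eq_stalkCongr f hx, ← map_pow, ← gen_iff_comap_fromSpecStalk f J x]
    have := congrArg (Ideal.map (σ f x (specializes_of_eq hx))) hsp
    rw [Ideal.map_span, Ideal.map_span, Set.image_singleton, Set.image_singleton] at this
    exact this.trans (ha.2 x _ hx)
  · rintro ⟨htriv, hord⟩
    refine descends f J hf hJ (exists_isDesc f J hJ fun y => ?_)
    rcases hasRegPair_or_dim hY y with hp | hmax | hd
    · exact .inl hp
    · exact .inr ⟨1, isDesc_one_of_maximal f J (htriv y hmax)⟩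
    · obtain ⟨t, htn, ht, -⟩ := exists_uniformizer hY hd
      obtain ⟨n, hn⟩ := hord y hd
      refine .inr ⟨t ^ n, exists_isDesc_of_uniform f J hJ hd.le htn ht (hfib y hd) htriv n fun x hx hm => ?_⟩
      rw [gen_iff_comap_fromSpecStalk f J x, map_pow, σ_eq_stalkCongr f hx]
      exact hn t ht x hx hm

end Groth.Agent.DivDesc12
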