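import Mathlib.RingTheory.Regular.Flat
import Mathlib.RingTheory.Regular.RegularSequence
import Mathlib.RingTheory.Ideal.AssociatedPrime.Finiteness
import Mathlib.RingTheory.Flat.FaithfullyFlat.Algebra
import Mathlib.RingTheory.IntegralClosure.IntegrallyClosed
import Mathlib.RingTheory.LocalRing.MaximalIdeal.Basic
import Mathlib.RingTheory.KrullDimension.Basic
import Mathlib.RingTheory.TensorProduct.Quotient
import Mathlib.RingTheory.DiscreteValuationRing.TFAE
import Mathlib.RingTheory.KrullDimension.PID

/-!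
# Descent of principal ideals along flat local maps at depth at least two
-/

universe u

set_option linter.style.haveILetI false

open IsLocalRing Pointwise

namespace Groth.Agent.DivDesc12

/-- A regular sequence of length two in the maximal ideal. -/
def HasRegPair (A : Type u) [CommRing A] [IsLocalRing A] : Prop :=
  ∃ t s : A, t ∈ maximalIdeal A ∧ s ∈ maximalIdeal A ∧ RingTheory.Sequence.IsWeaklyRegular A [t, s]

variable {A B : Type u} [CommRing A] [CommRing B] [Algebra A B]

theorem pair_spec {t s : B} (h : RingTheory.Sequence.IsWeaklyRegular B [t, s]) :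
    (∀ b, t * b = 0 → b = 0) ∧ ∀ u v, s * u = t * v → ∃ w, u = t * w := by
  simp only [RingTheory.Sequence.isWeaklyRegular_cons_iff] at h
  refine ⟨fun b hb => h.1.right_eq_zero_of_smul (by simpa using hb), fun u v huv => ?_⟩
  have h2 := h.2.1
  have : s • (Submodule.Quotient.mk u : QuotSMulTop t B) = 0 := by
    rw [← Submodule.Quotient.mk_smul, Submodule.Quotient.mk_eq_zero, smul_eq_mul, huv]
    exact Submodule.smul_mem_pointwise_smul v t ⊤ trivial
  have := (Submodule.Quotient.mk_eq_zero _).1 (h2.right_eq_zero_of_smul this)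
  rw [Submodule.mem_smul_pointwise_iff_exists] at this
  obtain ⟨w, -, hw⟩ := this
  exact ⟨w, hw.symm⟩

/-- The key cancellation: `𝔪` has depth at least one on `B/gB`. -/
theorem mem_span_of_mul_mem [IsLocalRing A] [Module.Flat A B] (hA : HasRegPair A) {g b : B}
    (hg : g ∈ nonZeroDivisors B)
    (h : ∀ a ∈ maximalIdeal A, algebraMap A B a * b ∈ Ideal.span {g}) : b ∈ Ideal.span {g} := by
  obtain ⟨t, s, ht, hs, hreg⟩ := hA
  obtain ⟨h1, h2⟩ := pair_spec (B := B) (t := algebraMap A B t) (s := algebraMap A B s)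
    (by simpa using hreg.of_flat (S := B))
  obtain ⟨u, hu⟩ := Ideal.mem_span_singleton'.1 (h t ht)
  obtain ⟨v, hv⟩ := Ideal.mem_span_singleton'.1 (h s hs)
  have h3 : algebraMap A B s * u = algebraMap A B t * v :=
    (mul_cancel_right_mem_nonZeroDivisors hg).1 (by
      rw [mul_assoc, hu, mul_assoc, hv]; ring)
  obtain ⟨w, hw⟩ := h2 u v h3
  refine Ideal.mem_span_singleton'.2 ⟨w, ?_⟩
  have : algebraMap A B t * (b - w * g) = 0 := by
    rw [mul_sub, ← hu, hw]; ring
  exact (sub_eq_zero.1 (h1 _ this)).symm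

theorem mem_span_of_pow_mul_mem [IsLocalRing A] [Module.Flat A B] (hA : HasRegPair A) {g : B}
    (hg : g ∈ nonZeroDivisors B) : ∀ (n : ℕ) (b : B),
      (∀ z ∈ (maximalIdeal A).map (algebraMap A B) ^ n, z * b ∈ Ideal.span {g}) → b ∈ Ideal.span {g}
  | 0, b, h => by simpa using h 1 (by simp)
  | n + 1, b, h => mem_span_of_pow_mul_mem hA hg n b fun z hz => mem_span_of_mul_mem hA hg fun a ha => by
      rw [← mul_assoc, mul_comm (algebraMap A B a) z]
      exact h _ (pow_succ ((maximalIdeal A).map (algebraMap A B)) n ▸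
        Ideal.mul_mem_mul hz (Ideal.mem_map_of_mem _ ha))

/-- An element of `𝔪` regular modulo an ideal to which `𝔪` is not associated. -/
theorem exists_regular_mod [IsLocalRing A] [IsNoetherianRing A] (I : Ideal A)
    (h : ∀ a : A, (∀ x ∈ maximalIdeal A, x * a ∈ I) → a ∈ I) :
    ∃ r ∈ maximalIdeal A, ∀ a : A, r * a ∈ I → a ∈ I := by
  by_contra hc
  push Not at hc
  have hsub : (maximalIdeal A : Set A) ⊆ ⋃ p ∈ associatedPrimes A (A ⧸ I), (p : Set A) := by
    rw [biUnion_associatedPrimes_eq_zero_divisors]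
    intro r hr
    obtain ⟨a, ha, ha'⟩ := hc r hr
    refine ⟨Ideal.Quotient.mk I a, fun h0 => ha' (Ideal.Quotient.eq_zero_iff_mem.1 h0), ?_⟩
    rw [Algebra.smul_def, Ideal.Quotient.algebraMap_eq, ← map_mul]
    exact Ideal.Quotient.eq_zero_iff_mem.2 ha
  have fin := associatedPrimes.finite A (A ⧸ I)
  obtain ⟨P, hP, hle⟩ := ((maximalIdeal A).subset_union_prime_finite fin (f := id) 0 0
    fun _ h _ _ => h.isPrime).1 (by simpa using hsub)
  have hPm : P = maximalIdeal A := ((maximalIdeal.isMaximal A).eq_of_le hP.isPrime.ne_top hle).symm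
  obtain ⟨-, x, hx⟩ := isAssociatedPrime_iff.1 (AssociatedPrimes.mem_iff.1 hP)
  obtain ⟨a, rfl⟩ := Ideal.Quotient.mk_surjective x
  have haI : a ∈ I := h a fun y hy => by
    have : y ∈ Submodule.colon (⊥ : Submodule A (A ⧸ I)) {Ideal.Quotient.mk I a} := by
      rw [← hx, hPm]; exact hy
    rw [Submodule.mem_colon_singleton, Submodule.mem_bot, Algebra.smul_def, Ideal.Quotient.algebraMap_eq,
      ← map_mul] at this
    exact Ideal.Quotient.eq_zero_iff_mem.1 this
  refine hP.isPrime.ne_top ((Ideal.eq_top_iff_one _).2 ?_)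
  rw [hx, Submodule.mem_colon_singleton, Submodule.mem_bot, one_smul]
  exact Ideal.Quotient.eq_zero_iff_mem.2 haI

/-- An element regular modulo `I` stays regular modulo `IB`. -/
theorem regular_mod_map [Module.Flat A B] {I : Ideal A} {r : A} (hr : ∀ a, r * a ∈ I → a ∈ I)
    {b : B} (hb : algebraMap A B r * b ∈ I.map (algebraMap A B)) : b ∈ I.map (algebraMap A B) := by
  let J := I.map (algebraMap A B)
  have hreg : IsSMulRegular (A ⧸ I) r := IsSMulRegular.of_right_eq_zero_of_smul fun x hx => by
    obtain ⟨a, rfl⟩ := Ideal.Quotient.mk_surjective x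
    rw [Algebra.smul_def, Ideal.Quotient.algebraMap_eq, ← map_mul] at hx
    exact Ideal.Quotient.eq_zero_iff_mem.2 (hr a (Ideal.Quotient.eq_zero_iff_mem.1 hx))
  have h1 : IsSMulRegular (TensorProduct A B (A ⧸ I)) r := by
    have := Module.Flat.lTensor_preserves_injective_linearMap (M := B)
      (LinearMap.lsmul A (A ⧸ I) r) hreg
    intro x y hxy
    refine this ?_
    have key : ∀ z, (LinearMap.lsmul A (A ⧸ I) r).lTensor B z = r • z := by
      intro z
      induction z using TensorProduct.induction_on with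
      | zero => simp
      | add x y hx hy => simp [hx, hy]
      | tmul c x => simp [TensorProduct.smul_tmul']
    rw [key, key]; exact hxy
  let e := (Algebra.TensorProduct.quotIdealMapEquivTensorQuot B I).symm
  have h2 : (Ideal.Quotient.mk _ b : B ⧸ I.map (algebraMap A B)) = 0 := by
    have h3 : e.symm (Ideal.Quotient.mk _ b) = 0 := by
      refine h1.right_eq_zero_of_smul ?_
      rw [← algebraMap_smul B r (e.symm _), ← map_smul, Algebra.smul_def, Ideal.Quotient.algebraMap_eq,
        ← map_mul, Ideal.Quotient.eq_zero_iff_mem.2 hb, map_zero]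
    simpa using congrArg e h3
  exact Ideal.Quotient.eq_zero_iff_mem.1 h2

/-- Descent of a principal ideal, given descent on the punctured spectrum. -/
theorem exists_generator [IsLocalRing A] [IsNoetherianRing A] [IsLocalRing B]
    [Module.FaithfullyFlat A B] (hA : HasRegPair A) {g : B} (hg : g ∈ nonZeroDivisors B)
    (hloc : ∀ q : Ideal B, q.IsPrime → q.comap (algebraMap A B) ≠ maximalIdeal A →
      ∃ z, z ∉ q ∧ z * g ∈ ((Ideal.span {g}).comap (algebraMap A B)).map (algebraMap A B)) :
    ∃ a : A, a ∈ nonZeroDivisors A ∧ Ideal.span {algebraMap A B a} = Ideal.span {g} := by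
  let I := (Ideal.span {g}).comap (algebraMap A B)
  let J := I.map (algebraMap A B)
  let mB := (maximalIdeal A).map (algebraMap A B)
  have hI : ∀ a : A, (∀ x ∈ maximalIdeal A, x * a ∈ I) → a ∈ I := fun a h =>
    mem_span_of_mul_mem hA hg fun x hx => by simpa [I, Ideal.mem_comap] using h x hx
  obtain ⟨r, hr, hrI⟩ := exists_regular_mod I hI
  let C : Ideal B :=
    { carrier := {z | z * g ∈ J}
      add_mem' := fun {x y} hx hy => by
        rw [Set.mem_ofPred_eq, add_mul]; exact J.add_mem hx hy
      zero_mem' := by simp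
      smul_mem' := fun c x hx => by
        rw [Set.mem_ofPred_eq, smul_eq_mul, mul_assoc]; exact J.mul_mem_left c hx }
  have hrad : algebraMap A B r ∈ C.radical := by
    rw [Ideal.radical_eq_sInf, Submodule.mem_sInf]
    rintro q ⟨hCq, hq⟩
    by_contra hrq
    obtain ⟨z, hzq, hz⟩ := hloc q hq (fun e => hrq (by
      show r ∈ Ideal.comap (algebraMap A B) q
      rw [e]; exact hr))
    exact hzq (hCq hz)
  obtain ⟨n, hn⟩ := hrad
  have hgJ : g ∈ J := by
    induction n with
    | zero => simpa [C] using hn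
    | succ k ih =>
      refine ih (regular_mod_map hrI ?_)
      have : algebraMap A B r ^ (k + 1) * g ∈ J := hn
      rw [pow_succ', mul_assoc] at this
      exact this
  have hJle : J ≤ Ideal.span {g} := Ideal.map_comap_le
  obtain ⟨a, ha, ha'⟩ : ∃ a ∈ I, ∀ c, algebraMap A B a = c * g → IsUnit c := by
    by_contra hc
    push Not at hc
    have : J ≤ maximalIdeal B * Ideal.span {g} := by
      rw [Ideal.map_le_iff_le_comap]
      intro a ha
      obtain ⟨c, h1, h2⟩ := hc a ha
      rw [Ideal.mem_comap, h1]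
      exact Ideal.mul_mem_mul h2 (Ideal.mem_span_singleton_self g)
    obtain ⟨c, hc', e⟩ := Ideal.mem_mul_span_singleton.1 (this hgJ)
    have : c = 1 := (mul_cancel_right_mem_nonZeroDivisors hg).1 (by rw [e, one_mul])
    exact (maximalIdeal.isMaximal B).ne_top ((Ideal.eq_top_iff_one _).2 (this ▸ hc'))
  obtain ⟨c, hc⟩ := Ideal.mem_span_singleton'.1 (show algebraMap A B a ∈ Ideal.span {g} from ha)
  have hu := ha' c hc.symm
  refine ⟨a, mem_nonZeroDivisors_iff_right.2 fun x hx => ?_, ?_⟩
  · have h4 : algebraMap A B x * (c * g) = 0 := by rw [hc, ← map_mul, hx, map_zero]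
    have h5 : algebraMap A B x = 0 := (mul_right_mem_nonZeroDivisors_eq_zero_iff
      (mul_mem (hu.mem_nonZeroDivisors) hg)).1 h4
    exact FaithfulSMul.algebraMap_injective A B (h5.trans (map_zero _).symm)
  · rw [← hc, Ideal.span_singleton_mul_left_unit hu]

theorem span_eq_of_map_eq [Module.FaithfullyFlat A B] {a a' : A}
    (h : Ideal.span {algebraMap A B a} = Ideal.span {algebraMap A B a'}) :
    Ideal.span {a} = Ideal.span {a'} := by
  rw [← Ideal.comap_map_eq_self_of_faithfullyFlat (B := B) (Ideal.span {a}),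
    ← Ideal.comap_map_eq_self_of_faithfullyFlat (B := B) (Ideal.span {a'}),
    Ideal.map_span, Ideal.map_span, Set.image_singleton, Set.image_singleton, h]

/-- Normal Noetherian local domains of dimension at least two have depth at least two. -/
theorem hasRegPair_of_normal [IsDomain A] [IsIntegrallyClosed A] [IsLocalRing A] [IsNoetherianRing A]
    (h : 1 < ringKrullDim A) : HasRegPair A := by
  have hne : ∀ t : A, maximalIdeal A ≠ Ideal.span {t} := fun t ht => by
    have : ringKrullDim A ≤ 1 := by
      haveI : (maximalIdeal A).IsPrincipal := ⟨⟨t, ht⟩⟩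
      haveI : IsPrincipalIdealRing A :=
        ((tfae_of_isNoetherianRing_of_isLocalRing_of_isDomain A).out 0 4).2
          (‹(maximalIdeal A).IsPrincipal› : _)
      exact Order.KrullDimLE.krullDim_le (α := PrimeSpectrum A)
    exact absurd h (not_lt.2 this)
  obtain ⟨t, ht, ht0⟩ : ∃ t ∈ maximalIdeal A, t ≠ 0 := by
    by_contra hc
    push Not at hc
    exact hne 0 (le_antisymm (fun x hx => by simp [hc x hx]) (by simp))
  have hI : ∀ a : A, (∀ x ∈ maximalIdeal A, x * a ∈ Ideal.span {t}) → a ∈ Ideal.span {t} := by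
    intro a ha
    choose! φ hφ using fun x hx => Ideal.mem_span_singleton'.1 (ha x hx)
    by_cases hmm : ∀ x ∈ maximalIdeal A, φ x ∈ maximalIdeal A
    · let K := FractionRing A
      let ι := algebraMap A K
      have htK : ι t ≠ 0 := by simpa [ι] using ht0
      let M : Submodule A K := Submodule.map (Algebra.linearMap A K) (maximalIdeal A)
      have hint : IsIntegral A (ι a / ι t) := by
        refine isIntegral_of_smul_mem_submodule M ?_ ((IsNoetherian.noetherian _).map _) _ ?_
        · intro hb
          have : Algebra.linearMap A K t ∈ (⊥ : Submodule A K) := hb ▸ Submodule.mem_map_of_mem ht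
          exact ht0 (by simpa using this)
        · rintro _ ⟨x, hx, rfl⟩
          refine ⟨φ x, hmm x hx, ?_⟩
          show ι (φ x) = ι a / ι t * ι x
          rw [div_mul_eq_mul_div, eq_div_iff htK, ← map_mul, hφ x hx, map_mul, mul_comm]
      obtain ⟨c, hc⟩ := IsIntegrallyClosed.isIntegral_iff.1 hint
      refine Ideal.mem_span_singleton'.2 ⟨c, IsFractionRing.injective A K ?_⟩
      rw [eq_div_iff htK] at hc
      rw [map_mul]; exact hc
    · push Not at hmm
      obtain ⟨s, hs, hu⟩ := hmm
      have hu' : IsUnit (φ s) := by simpa using hu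
      exfalso
      refine hne s (le_antisymm (fun x hx => ?_) ((Ideal.span_singleton_le_iff_mem _).2 hs))
      have ha0 : a ≠ 0 := fun e => by
        have := hφ s hs
        rw [e, mul_zero, mul_eq_zero] at this
        exact this.elim hu'.ne_zero ht0
      obtain ⟨w, hw⟩ := hu'.exists_left_inv
      refine Ideal.mem_span_singleton'.2 ⟨φ x * w, mul_right_cancel₀ ha0 ?_⟩
      calc φ x * w * s * a = φ x * w * (φ s * t) := by rw [hφ s hs]; ring
        _ = φ x * t := by rw [← mul_assoc, mul_assoc (φ x) w, hw, mul_one]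
        _ = x * a := hφ x hx
  obtain ⟨s, hs, hsr⟩ := exists_regular_mod _ hI
  refine ⟨t, s, ht, hs, ?_⟩
  simp only [RingTheory.Sequence.isWeaklyRegular_cons_iff]
  refine ⟨IsSMulRegular.of_right_eq_zero_of_smul fun x hx => by simpa [ht0] using hx,
    IsSMulRegular.of_right_eq_zero_of_smul fun x hx => ?_, RingTheory.Sequence.IsWeaklyRegular.nil A _⟩
  obtain ⟨a, rfl⟩ := Submodule.Quotient.mk_surjective _ x
  rw [← Submodule.Quotient.mk_smul, Submodule.Quotient.mk_eq_zero] at hx
  rw [Submodule.Quotient.mk_eq_zero]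
  have hsp : (t • (⊤ : Submodule A A)) = Ideal.span {t} := by
    ext y; simp [Submodule.mem_smul_pointwise_iff_exists, Ideal.mem_span_singleton', mul_comm]
  rw [hsp] at hx ⊢
  exact hsr a (by simpa using hx)

end Groth.Agent.DivDesc12
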